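import Cfsg.Agent.Omega.NoFF.LinesPlug

/-!
# NO-3L: the cut (A/B) and the tools of case (B) (#13890, author helper863, referee helper120 #14215)

`S` a Sylow 2-subgroup of `G` (characteristic 2 type, no mutual pair), all `V_P ≤ Q = O₂(C)` for `P ∈ P*(S)`,
`C = C_G(Ω₁Z(S))` (`CC S`). `HH S` is the set of the `H ∈ L(S)` containing `C`, `U_H = zl S H = ⟨Z^H⟩`; `WW S` is
generated by all lines on the point `Z`. Everything is K-free and for all `|Z|`.

* `CaseA S` : `[V_P, U_H] ≠ 1` for some `P ∈ P*(S)`, `H ∈ HH S`;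
* `le_o2_of_comm` : a subgroup of `Q` which centralises `U_H` lies in `O₂(H)`;
* not (A): `WW_le_o2` (`W ≤ O₂(H)`), `com_of_mem` : `[W_x, W_y] = 1` for `x, y ∈ H` (points of `U_H`); `FH S H`
  `= ⟨W_x : x ∈ Pt(H)⟩` is elementary abelian, normal in `H`, contained in `O₂(H)`;
* `exists_critH` : critical pairs for the paths with steps in the members of `HH S` (`d_H`);
  `caseA_iff` : (A) iff `d_H = 1`; not (A): `d_H ≥ 2`.

The tools of case (B) are in `Omega/NO3L/Tools.lean`.
-/

set_option autoImplicit false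
set_option linter.unusedSectionVars false

namespace Cfsg.Agent.Omega.NO3L.Cut

open Subgroup Cfsg Cfsg.Agent.ZN Cfsg.Agent.Omega.MinPar Cfsg.Agent.MinSimple.VModule
open Cfsg.Agent.MinSimple.Basic
open Cfsg.Agent.Omega Cfsg.Agent.Omega.NoFF.Basic Cfsg.Agent.Omega.NoFF.Lines
open Cfsg.Agent.Omega.NoFF.LinesPlug
open scoped Pointwise

variable {G : Type*} [Group G]

/-- the members of `L(S)` containing `C_G(Ω₁Z(S))` -/
def HH (S : Subgroup G) : Set (Subgroup G) := {H | IsLoc S H ∧ CC S ≤ H}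

/-- `W`, generated by the lines on the point `Z` -/
abbrev WW (S : Subgroup G) : Subgroup G := W (zc S) (CC S) (PStar S)

/-- `[W_x, W_y] = 1` -/
abbrev Co (S : Subgroup G) (x y : G) : Prop := Com (zc S) (CC S) (PStar S) x y

/-- `F_H = ⟨W_x : x ∈ Pt(H)⟩` -/
def FH (S H : Subgroup G) : Subgroup G := ⨆ h : H, MulAut.conj (h : G) • WW S

/-- Case (A): `[V_P, U_H] ≠ 1` for some `P ∈ P*(S)` and some `H ≥ C`, `H ∈ L(S)`. -/
def CaseA (S : Subgroup G) : Prop :=
  ∃ P H : Subgroup G, IsParS S P ∧ H ∈ HH S ∧ ¬ zl S P ≤ centralizer (zl S H : Set G)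

/-- all `V_P`, `P ∈ P*(S)`, lie in `O₂(C)` -/
def Low (S : Subgroup G) : Prop := ∀ P : Subgroup G, IsParS S P → zl S P ≤ o2 (CC S)

/-- Critical pairs for the paths with steps in the members of `HH S`. -/
structure CritH (S : Subgroup G) (n : ℕ) (x y : G) : Prop where
  path : Path (CC S) (HH S) n x y
  ne : ¬ Co S x y
  min : ∀ k < n, ∀ a b, Path (CC S) (HH S) k a b → Co S a b

/-! ### Elementary facts -/

theorem conj_eq_self {H : Subgroup G} {h : G} {A : Subgroup G} (hA : H ≤ normalizer (A : Set G)) (hh : h ∈ H) :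
    MulAut.conj h • A = A := conj_eq (hA hh)

theorem le_normalizer_of_conj_le {X A : Subgroup G} (h : ∀ x ∈ X, MulAut.conj x • A ≤ A) :
    X ≤ normalizer (A : Set G) := by
  intro x hx
  rw [mem_normalizer_iff]
  intro a
  constructor
  · intro ha
    apply h x hx
    rw [mem_conj]
    simpa [mul_assoc] using ha
  · intro ha
    apply h x⁻¹ (X.inv_mem hx)
    rw [mem_conj]
    simpa [mul_assoc] using ha

theorem zc_le_zl' {S H : Subgroup G} : zc S ≤ zl S H := zc_le_zl S H

theorem centralizer_zl_le {S H : Subgroup G} : centralizer (zl S H : Set G) ≤ CC S :=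
  centralizer_le (zc_le_zl S H)

theorem CC_le_normalizer_WW (S : Subgroup G) : CC S ≤ normalizer (WW S : Set G) := C_le_normalizer_W

theorem V_le_FH {S H : Subgroup G} {h : G} (hh : h ∈ H) : MulAut.conj h • WW S ≤ FH S H :=
  le_iSup (fun h : H => MulAut.conj (h : G) • WW S) ⟨h, hh⟩

theorem WW_le_FH {S H : Subgroup G} : WW S ≤ FH S H := by
  have := V_le_FH (S := S) (one_mem H)
  rwa [map_one, one_smul] at this

theorem FH_le {S H A : Subgroup G} (h : ∀ x ∈ H, MulAut.conj x • WW S ≤ A) : FH S H ≤ A :=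
  iSup_le fun x => h x x.2

theorem le_normalizer_FH (S H : Subgroup G) : H ≤ normalizer (FH S H : Set G) := by
  apply le_normalizer_of_conj_le
  intro x hx
  rw [Subgroup.pointwise_smul_subset_iff]
  refine FH_le fun y hy => ?_
  rw [← Subgroup.pointwise_smul_subset_iff, conj_conj]
  exact V_le_FH (mul_mem hx hy)

theorem line_le_WW {S P : Subgroup G} (hP : IsParS S P) {c : G} (hc : c ∈ CC S) :
    MulAut.conj c • zl S P ≤ WW S := line_le (Z := zc S) (F := PStar S) hP hc

theorem zl_le_WW {S P : Subgroup G} (hP : IsParS S P) : zl S P ≤ WW S := by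
  have := line_le_WW hP (one_mem (CC S))
  rwa [map_one, one_smul] at this

/-- `U_H ≤ F_H` -/
theorem zl_le_FH {S H : Subgroup G} (hne : (PStar S).Nonempty) : zl S H ≤ FH S H := by
  have h1 : zc S ≤ WW S := Geo.Z_le_W hne
  exact zl_le (h1.trans WW_le_FH) (le_normalizer_FH S H)

/-- If `V_P^c` does not commute with `U`, where `c ∈ C` normalises `U`, then neither does `V_P`. -/
theorem WW_le_of {S U : Subgroup G} (hU : CC S ≤ normalizer (U : Set G))
    (h : ∀ P, IsParS S P → zl S P ≤ centralizer (U : Set G)) : WW S ≤ centralizer (U : Set G) := by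
  refine W_le fun P hP c hc => ?_
  have h1 := conj_le_centralizer (g := c) (h P hP)
  rwa [conj_eq_self hU hc] at h1

/-! ### Paths -/

theorem Path.mono' {C : Subgroup G} {F F' : Set (Subgroup G)} (hF : ∀ P ∈ F, ∃ P' ∈ F', P ≤ P') {n : ℕ} {x y : G}
    (h : Path C F n x y) : Path C F' n x y := by
  induction h with
  | zero g hc => exact Path.zero g hc
  | step _ hP hp hc ih =>
    obtain ⟨P', hP', hle⟩ := hF _ hP
    exact ih.step hP' (hle hp) hc

theorem Path.of_zero {C : Subgroup G} {F : Set (Subgroup G)} {x y : G} (h : Path C F 0 x y) :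
    ∃ c ∈ C, y = x * c := by
  cases h with
  | zero g hc => exact ⟨_, hc, rfl⟩

theorem Path.of_succ {C : Subgroup G} {F : Set (Subgroup G)} {n : ℕ} {x y : G} (h : Path C F (n + 1) x y) :
    ∃ u p c, ∃ P ∈ F, Path C F n x u ∧ p ∈ P ∧ c ∈ C ∧ y = u * p * c := by
  cases h with
  | step hg hP hp hc => exact ⟨_, _, _, _, hP, hg, hp, hc, rfl⟩

namespace CritH

variable {S : Subgroup G} {n : ℕ} {x y : G}

theorem symm (h : CritH S n x y) : CritH S n y x := ⟨h.path.symm, fun h1 => h.ne h1.symm, h.min⟩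

theorem mul_left (g : G) (h : CritH S n x y) : CritH S n (g * x) (g * y) :=
  ⟨h.path.mul_left g, fun h1 => h.ne (com_mul_left.1 h1), h.min⟩

end CritH

/-! ### The cut -/

section cut

variable [Finite G] (S : Sylow 2 G)

theorem isLoc_CC (hS : (S : Subgroup G) ≠ ⊥) : CC (S : Subgroup G) ∈ HH (S : Subgroup G) :=
  ⟨isLoc_centralizer_zc S hS, le_rfl⟩

theorem S_le_CC : (S : Subgroup G) ≤ CC (S : Subgroup G) := le_centralizer_zc _

variable {S} {H K : Subgroup G}

/-- `O₂(H) ≤ O₂(C)` -/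
theorem o2_le_o2CC (hH : H ∈ HH (S : Subgroup G)) : o2 H ≤ o2 (CC (S : Subgroup G)) :=
  o2_le_o2 S (S_le_CC S) hH.2

omit [Finite G] in
theorem o2_conj {H : Subgroup G} {h : G} (hh : h ∈ H) : MulAut.conj h • o2 H = o2 H := conj_eq_self (le_normalizer_o2 H) hh

/-- `O₂(H) ≤ O₂(C)^h` for `h ∈ H` -/
theorem o2_le_conj_o2CC (hH : H ∈ HH (S : Subgroup G)) {h : G} (hh : h ∈ H) :
    o2 H ≤ MulAut.conj h • o2 (CC (S : Subgroup G)) := by
  rw [← o2_conj hh]
  exact conj_le_iff.2 (o2_le_o2CC hH)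

omit [Finite G] in
/-- A subgroup of `Q = O₂(C)` centralising `U_H` lies in `O₂(H)`. -/
theorem le_o2_of_comm (hH : H ∈ HH (S : Subgroup G)) {A : Subgroup G} (hA : A ≤ o2 (CC (S : Subgroup G)))
    (hc : A ≤ centralizer (zl (S : Subgroup G) H : Set G)) : A ≤ o2 H := by
  set D := centralizer (zl (S : Subgroup G) H : Set G) with hD
  have hDC : D ≤ CC (S : Subgroup G) := centralizer_zl_le
  have hHD : H ≤ normalizer (D : Set G) :=
    (le_normalizer_zl _ _).trans (normalizer_le_normalizer_centralizer' _)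
  have h1 : D ⊓ o2 (CC (S : Subgroup G)) ≤ o2 D := by
    refine le_o2 inf_le_left ((o2_isPGroup _).to_le inf_le_right) ?_
    intro d hd
    have h2 := le_normalizer_o2 (CC (S : Subgroup G)) (hDC hd)
    rw [mem_normalizer_iff] at h2 ⊢
    intro x
    have h3 := mem_normalizer_iff.1 (le_normalizer hd : d ∈ normalizer (D : Set G)) x
    exact ⟨fun hx => ⟨h3.1 hx.1, (h2 x).1 hx.2⟩, fun hx => ⟨h3.2 hx.1, (h2 x).2 hx.2⟩⟩
  have h2 : o2 D ≤ o2 H :=
    le_o2 ((o2_le D).trans (hDC.trans hH.2)) (o2_isPGroup D) (hHD.trans (normalizer_le_normalizer_o2' D))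
  exact (le_inf hc hA).trans (h1.trans h2)

omit [Finite G] in
/-- `W ≤ Q` -/
theorem WW_le_o2CC {S : Subgroup G} (hlow : Low S) : WW S ≤ o2 (CC S) := by
  refine W_le fun P hP c hc => ?_
  have h1 := (conj_le_iff (g := c)).2 (hlow P hP)
  rwa [o2_conj hc] at h1

omit [Finite G] in
theorem WW_comm_zl {S : Subgroup G} (hA : ¬ CaseA S) {H : Subgroup G} (hH : H ∈ HH S) :
    WW S ≤ centralizer (zl S H : Set G) := by
  refine WW_le_of (hH.2.trans (le_normalizer_zl _ _)) fun P hP => ?_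
  by_contra hc
  exact hA ⟨P, H, hP, hH, hc⟩

/-- not (A): `W ≤ O₂(H)` for all `H` -/
theorem WW_le_o2 (hlow : Low (S : Subgroup G)) (hA : ¬ CaseA (S : Subgroup G)) (hH : H ∈ HH (S : Subgroup G)) :
    WW (S : Subgroup G) ≤ o2 H :=
  le_o2_of_comm hH (WW_le_o2CC hlow) (WW_comm_zl hA hH)

/-- not (A): `F_H ≤ O₂(H)` -/
theorem FH_le_o2 (hlow : Low (S : Subgroup G)) (hA : ¬ CaseA (S : Subgroup G)) (hH : H ∈ HH (S : Subgroup G)) :
    FH (S : Subgroup G) H ≤ o2 H :=
  FH_le fun x hx => by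
    rw [← o2_conj hx]
    exact conj_le_iff.2 (WW_le_o2 hlow hA hH)

/-- **(i)** not (A): `[W, W_h] = 1` for `h ∈ H` -/
theorem com_one (hG : IsCharacteristicTwoType G) (hF : ¬ FF (S : Subgroup G)) (hlow : Low (S : Subgroup G))
    (hA : ¬ CaseA (S : Subgroup G)) (hH : H ∈ HH (S : Subgroup G)) {h : G} (hh : h ∈ H) :
    Co (S : Subgroup G) 1 h := by
  have D := sys hG S hF
  have hW := WW_le_o2 hlow hA hH
  have hSP : ∀ P ∈ PStar (S : Subgroup G), (S : Subgroup G) ≤ P := D.SP
  have hQS : o2 (CC (S : Subgroup G)) ≤ (S : Subgroup G) :=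
    o2_le_of_sylow S.isPGroup' (MinSimple.Basic.not_dvd_relIndex S (S_le_CC S))
  unfold Co Com
  rw [map_one, one_smul]
  refine W_le fun P hP c hc => comm_symm ?_
  refine conj_W_le fun P' hP' d hd => ?_
  refine D.noff' hP' hP ?_ ?_
  · -- `V_{P'}^{hd} ≤ P^c`
    have h1 : MulAut.conj (h * d) • V (zc (S : Subgroup G)) P' ≤ o2 H := by
      have h2 := (conj_le_iff (g := h)).2 ((line_le_WW hP' hd).trans hW)
      rw [o2_conj hh, conj_conj] at h2
      exact h2
    have h3 : o2 H ≤ MulAut.conj c • o2 (CC (S : Subgroup G)) := by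
      rw [o2_conj hc]
      exact o2_le_o2CC hH
    exact (h1.trans h3).trans (conj_le_iff.2 (hQS.trans (hSP P hP)))
  · -- `V_P^c ≤ P'^{hd}`
    have h1 : MulAut.conj c • V (zc (S : Subgroup G)) P ≤ o2 H := (line_le_WW hP hc).trans hW
    have h3 : o2 H ≤ MulAut.conj (h * d) • o2 (CC (S : Subgroup G)) := by
      rw [← conj_conj, o2_conj hd]
      exact o2_le_conj_o2CC hH hh
    exact (h1.trans h3).trans (conj_le_iff.2 (hQS.trans (hSP P' hP')))

/-- **(i)** not (A): `[W_x, W_y] = 1` for two points `x, y` of `H` -/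
theorem com_of_mem (hG : IsCharacteristicTwoType G) (hF : ¬ FF (S : Subgroup G)) (hlow : Low (S : Subgroup G))
    (hA : ¬ CaseA (S : Subgroup G)) (hH : H ∈ HH (S : Subgroup G)) {x y : G} (hx : x ∈ H) (hy : y ∈ H) :
    Co (S : Subgroup G) x y := by
  have h1 := com_one hG hF hlow hA hH (mul_mem (inv_mem hx) hy)
  have h2 := (com_mul_left (g := x)).2 h1
  rwa [mul_one, mul_inv_cancel_left] at h2

/-- **(ii)** not (A): `F_H` is abelian -/
theorem FH_comm (hG : IsCharacteristicTwoType G) (hF : ¬ FF (S : Subgroup G)) (hlow : Low (S : Subgroup G))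
    (hA : ¬ CaseA (S : Subgroup G)) (hH : H ∈ HH (S : Subgroup G)) :
    FH (S : Subgroup G) H ≤ centralizer (FH (S : Subgroup G) H : Set G) :=
  FH_le fun _ hx => comm_symm (FH_le fun _ hy => comm_symm (com_of_mem hG hF hlow hA hH hx hy))

/-- **(ii)** not (A): `F_H` has exponent 2 -/
theorem FH_sq (hG : IsCharacteristicTwoType G) (hS : (S : Subgroup G) ≠ ⊥) (hF : ¬ FF (S : Subgroup G))
    (hlow : Low (S : Subgroup G)) (hA : ¬ CaseA (S : Subgroup G)) (hH : H ∈ HH (S : Subgroup G)) :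
    ∀ w ∈ FH (S : Subgroup G) H, w ^ 2 = 1 := by
  have D := geo hG S hS hF (F := PStar (S : Subgroup G)) le_rfl hlow
  exact Geo.sq_of_comm (FH_comm hG hF hlow hA hH) (B := fun h : H => MulAut.conj (h : G) • WW (S : Subgroup G))
    (fun h => V_le_FH h.2) le_rfl fun h => Geo.conj_sq D.W_sq _

/-! ### Critical pairs -/

/-- paths along lines are paths along members of `HH` -/
theorem path_HH (hloc : ∀ P, IsParS (S : Subgroup G) P → IsLoc (S : Subgroup G) (P ⊔ CC (S : Subgroup G))) {n : ℕ}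
    {x y : G} (h : Path (CC (S : Subgroup G)) (PStar (S : Subgroup G)) n x y) :
    Path (CC (S : Subgroup G)) (HH (S : Subgroup G)) n x y :=
  Path.mono' (fun P hP =>
    ⟨P ⊔ CC (S : Subgroup G), (show _ ∈ HH (S : Subgroup G) from ⟨hloc P hP, le_sup_right⟩), le_sup_left⟩) h

theorem co_of_zero (hG : IsCharacteristicTwoType G) (hS : (S : Subgroup G) ≠ ⊥) (hF : ¬ FF (S : Subgroup G))
    (hlow : Low (S : Subgroup G)) {F : Set (Subgroup G)} {x y : G} (h : Path (CC (S : Subgroup G)) F 0 x y) :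
    Co (S : Subgroup G) x y := by
  have D := geo hG S hS hF (F := PStar (S : Subgroup G)) le_rfl hlow
  obtain ⟨c, hc, rfl⟩ := Path.of_zero h
  unfold Co Com
  rw [W_mul hc]
  exact D.W_comm' x

/-- not (A): all pairs of points at distance at most one commute -/
theorem co_of_one (hG : IsCharacteristicTwoType G) (hF : ¬ FF (S : Subgroup G))
    (hlow : Low (S : Subgroup G)) (hA : ¬ CaseA (S : Subgroup G)) {x y : G}
    (h : Path (CC (S : Subgroup G)) (HH (S : Subgroup G)) 1 x y) : Co (S : Subgroup G) x y := by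
  obtain ⟨u, p, c, H, hH, h0, hp, hc, rfl⟩ := Path.of_succ h
  obtain ⟨d, hd, rfl⟩ := Path.of_zero h0
  have h1 := (com_mul_left (g := x)).2
    (com_one hG hF hlow hA hH (mul_mem (mul_mem (hH.2 hd) hp) (hH.2 hc)))
  rw [mul_one] at h1
  have e : x * (d * p * c) = x * d * p * c := by group
  rwa [e] at h1

/-- There is a critical pair. -/
theorem exists_critH (hG : IsCharacteristicTwoType G) (hS : (S : Subgroup G) ≠ ⊥) (hF : ¬ FF (S : Subgroup G))
    {n : ℕ} {y : G} (h : NoThreeL (S : Subgroup G) n y) : ∃ m, 1 ≤ m ∧ m ≤ n ∧ ∃ y, CritH (S : Subgroup G) m 1 y := by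
  classical
  have h1 : ∃ k, ∃ x y, Path (CC (S : Subgroup G)) (HH (S : Subgroup G)) k x y ∧ ¬ Co (S : Subgroup G) x y :=
    ⟨n, 1, y, path_HH h.loc h.crit.path, h.crit.ne⟩
  obtain ⟨x, y', hp, hne⟩ := Nat.find_spec h1
  have hmin : ∀ k < Nat.find h1, ∀ a b, Path (CC (S : Subgroup G)) (HH (S : Subgroup G)) k a b →
      Co (S : Subgroup G) a b := by
    intro k hk a b hab
    by_contra hcon
    exact Nat.find_min h1 hk ⟨a, b, hab, hcon⟩
  refine ⟨Nat.find h1, ?_, Nat.find_min' h1 ⟨1, y, path_HH h.loc h.crit.path, h.crit.ne⟩, x⁻¹ * y', ?_⟩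
  · rw [Nat.one_le_iff_ne_zero]
    intro h0
    rw [h0] at hp
    exact hne (co_of_zero hG hS hF h.le hp)
  · have := (CritH.mk hp hne hmin).mul_left x⁻¹
    rwa [inv_mul_cancel] at this

omit [Finite G] in
/-- (A) gives a noncommuting pair of points at distance 1. -/
theorem CaseA.exists_path {S : Subgroup G} (hA : CaseA S) : ∃ y, Path (CC S) (HH S) 1 1 y ∧ ¬ Co S 1 y := by
  obtain ⟨P, H, hP, hH, hne⟩ := hA
  by_contra hcon
  push Not at hcon
  apply hne
  have hZ : zc S ≤ WW S := Geo.Z_le_W ⟨P, hP⟩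
  refine comm_symm (V_le (Z := zc S) (P := H) fun h hh => ?_)
  have h1 := hcon h (by
    have := Path.one (C := CC S) hH (g := 1) hh
    rwa [one_mul] at this)
  unfold Co Com at h1
  rw [map_one, one_smul] at h1
  exact comm_mono (comm_symm h1) (conj_le_iff.2 hZ) (zl_le_WW hP)

/-- **The cut**: (A) iff the critical distance is 1. -/
theorem caseA_iff (hG : IsCharacteristicTwoType G) (hF : ¬ FF (S : Subgroup G))
    (hlow : Low (S : Subgroup G)) {m : ℕ} {x y : G} (hm : 1 ≤ m) (h : CritH (S : Subgroup G) m x y) :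
    CaseA (S : Subgroup G) ↔ m = 1 := by
  constructor
  · intro hA
    obtain ⟨y, h1, h2⟩ := hA.exists_path
    by_contra hm1
    exact h2 (h.min 1 (by omega) _ _ h1)
  · rintro rfl
    by_contra hA
    exact h.ne (co_of_one hG hF hlow hA h.path)

end cut

end Cfsg.Agent.Omega.NO3L.Cut
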