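import Cfsg.Agent.Omega.FrameNOFF
import Cfsg.Agent.ZN.ChoiceBase

/-!
# NO-3L: LEMMA J0 (bb OMEGA #14093, helper512; referee helper593 #14221)

`S` a Sylow 2-subgroup of `G`, `Z = Ω₁(Z(S)) = zc S`, `C = C_G(Z) = CZ S`, `U_H = ⟨Z^H⟩ = zl S H`.
`X ≠ 1` is a subgroup of `S` weakly closed in `S` (`WC X S`): `J(S)` (`wc_jj`), or the group generated by the
members contained in `S` of a conjugation invariant set of subgroups (`wc_sSup`; for instance
`⟨U^g : U^g ≤ S⟩`, `wc_conj`).  `MX X C = N_G(⟨X^C⟩)`.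

* `le_MX` : `C ≤ H` and `[X, U_H] = 1` imply `H ≤ MX X C` (`H` need not be 2-local);
* `isLoc_MX` : `MX X C ∈ L(S)`, `CZ_le_MX`, `cent_MX` : `[X, U_(MX)] = 1`;
* `exists_not_cent` : in the case `Full S` some `P ∈ P*(S)` has `[X, U_P] ≠ 1`, `U_P = ⟨Z^⟨P, C⟩⟩`;
* `exists_jj` : the same for `X = J(S)`: **LEMMA J0**;
* `le_normalizer_bau` : (R1) `P ∈ P*(S)` and `J(S) ≤ O₂(P)` imply `P ≤ N_G(B)`, `B = C_S(Ω₁(Z(J(S))))`.
-/

set_option autoImplicit false

namespace Cfsg.Agent.Omega.NO3L.JZero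

open Subgroup Cfsg Cfsg.Agent.ZN Cfsg.Agent.Omega.MinPar Cfsg.Agent.Omega.Frame Cfsg.Agent.Omega.FrameNOFF
open Cfsg.Agent.MinSimple.VModule
open Cfsg.Agent.Omega.NoFF.Basic (V conj_conj mem_conj conj_le_iff conj_le_centralizer comm_symm comm_mono
  Z_le_V V_le conj_self)
open scoped Pointwise

universe u

variable {G : Type u} [Group G]

/-! ### Weakly closed subgroups -/

/-- `X` is a weakly closed subgroup of `S`. -/
structure WC (X S : Subgroup G) : Prop where
  le : X ≤ S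
  wc : ∀ g : G, MulAut.conj g • X ≤ S → MulAut.conj g • X ≤ X

theorem le_of_normalizer {X D : Subgroup G} [Finite G] {S : Subgroup G} (h : WC X S) (hX : X ≤ D)
    (hD : D ≤ S) : normalizer (D : Set G) ≤ normalizer (X : Set G) := by
  intro n hn
  refine mem_normalizer_of_map_le ?_
  have h1 : MulAut.conj n • X ≤ MulAut.conj n • D := conj_le_iff.2 hX
  rw [NoFF.Main.conj_eq_of_mem_normalizer hn] at h1
  exact h.wc n (h1.trans hD)

/-- The subgroup generated by the members contained in `S` of a conjugation invariant class. -/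
theorem wc_sSup {𝒦 : Set (Subgroup G)} (h : ∀ A ∈ 𝒦, ∀ g : G, MulAut.conj g • A ∈ 𝒦) (S : Subgroup G) :
    WC (sSup {A | A ∈ 𝒦 ∧ A ≤ S}) S where
  le := sSup_le fun A hA => hA.2
  wc g hg := by
    rw [Subgroup.pointwise_smul_subset_iff]
    refine sSup_le fun A hA => ?_
    rw [← Subgroup.pointwise_smul_subset_iff]
    refine le_sSup ⟨h A hA.1 g, (conj_le_iff.2 ?_ : MulAut.conj g • A ≤ _).trans hg⟩
    exact le_sSup hA

/-- `⟨U^g : U^g ≤ S⟩` is weakly closed in `S`. -/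
theorem wc_conj (U S : Subgroup G) :
    WC (sSup {A | A ∈ Set.range (fun g : G => MulAut.conj g • U) ∧ A ≤ S}) S := by
  refine wc_sSup ?_ S
  rintro _ ⟨g, rfl⟩ x
  exact ⟨x * g, (conj_conj x g U).symm⟩

/-- `J(S)` is weakly closed in the Sylow 2-subgroup `S`. -/
theorem wc_jj [Finite G] (S : Sylow 2 G) : WC (jj (S : Subgroup G)) (S : Subgroup G) := by
  have h1 := wc_sSup (𝒦 := maxElementaryAbelianSubgroups 2 G) (fun A hA g => ?_)
    (S : Subgroup G)
  · have hf : Fact (Nat.Prime 2) := ⟨Nat.prime_two⟩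
    rw [jj, PLocal.ThompsonJ.thompsonSubgroupOf_sylow_eq S]
    exact h1
  · refine PLocal.ThompsonJ.mem_max_of_card_eq hA (PLocal.ThompsonJ.isElementaryAbelian_map hA.1 _) ?_
    exact (PLocal.ThompsonJ.card_map_injective (f := (MulAut.conj g).toMonoidHom) _
      (MulAut.conj g).injective).ge

/-! ### `M_X` -/

/-- `M_X = N_G(⟨X^C⟩)`. -/
def MX (X C : Subgroup G) : Subgroup G := normalizer (V X C : Set G)

theorem le_V (X C : Subgroup G) : X ≤ V X C := by
  have h1 := Z_le_V (Z := X) (P := C) (one_mem C)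
  rwa [map_one, one_smul] at h1

theorem V_le_self {X C : Subgroup G} (h : X ≤ C) : V X C ≤ C :=
  V_le fun c hc => by
    have h1 : MulAut.conj c • X ≤ MulAut.conj c • C := conj_le_iff.2 h
    rwa [conj_self hc] at h1

theorem le_MX_self (X C : Subgroup G) : C ≤ MX X C := by
  have key : ∀ c ∈ C, ∀ x ∈ V X C, c * x * c⁻¹ ∈ V X C := by
    intro c hc x hx
    have h1 : V X C ≤ MulAut.conj c⁻¹ • V X C := by
      refine V_le fun d hd => ?_
      have h2 : MulAut.conj (c⁻¹ * (c * d)) • X ≤ MulAut.conj c⁻¹ • V X C := by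
        rw [← conj_conj]
        exact conj_le_iff.2 (Z_le_V (C.mul_mem hc hd))
      rwa [inv_mul_cancel_left] at h2
    have h2 := h1 hx
    rw [mem_conj, inv_inv] at h2
    exact h2
  intro c hc
  rw [MX, mem_normalizer_iff]
  refine fun x => ⟨key c hc x, fun hx => ?_⟩
  have h1 := key c⁻¹ (inv_mem hc) _ hx
  have e : c⁻¹ * (c * x * c⁻¹) * c⁻¹⁻¹ = x := by group
  rwa [e] at h1

section finite

variable [Finite G]

/-- `H = C_H(U_H) N_H(X)`, if `X` is weakly closed in `S ≤ H` and centralises `U_H`. -/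
theorem frattini_wc (S : Sylow 2 G) {X H : Subgroup G} (hX : WC X (S : Subgroup G))
    (hSH : (S : Subgroup G) ≤ H) (hc : X ≤ centralizer (zl (S : Subgroup G) H : Set G)) :
    H ≤ (H ⊓ centralizer (zl (S : Subgroup G) H : Set G)) ⊔ (H ⊓ normalizer (X : Set G)) := by
  refine (MinSimple.Basic.frattini hSH S.isPGroup' (MinSimple.Basic.not_dvd_relIndex S hSH)
    (le_normalizer_centralizer_zl (S : Subgroup G) H)).trans (sup_le_sup_left (inf_le_inf_left _ ?_) _)
  exact le_of_normalizer hX (le_inf hX.le (le_inf (hX.le.trans hSH) hc)) inf_le_left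

/-- **`C ≤ H` and `[X, U_H] = 1` imply `H ≤ M_X`.** -/
theorem le_MX (S : Sylow 2 G) {X H : Subgroup G} (hX : WC X (S : Subgroup G))
    (hCH : CZ (S : Subgroup G) ≤ H) (hc : X ≤ centralizer (zl (S : Subgroup G) H : Set G)) :
    H ≤ MX X (CZ (S : Subgroup G)) := by
  have hSH : (S : Subgroup G) ≤ H := (le_CZ S).trans hCH
  have hf := frattini_wc S hX hSH hc
  have hn := le_normalizer_centralizer_zl (S : Subgroup G) H
  set D : Subgroup G := H ⊓ centralizer (zl (S : Subgroup G) H : Set G) with hD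
  have hDC : D ≤ CZ (S : Subgroup G) := inf_le_right.trans (centralizer_le (zc_le_zl _ _))
  -- every element of `H` is `d * n`
  have hdn : ∀ h ∈ H, ∃ d ∈ D, ∃ n ∈ normalizer (X : Set G), h = d * n := by
    intro h hh
    have h1 := hf hh
    have h2 : H ⊓ normalizer (X : Set G) ≤ normalizer (D : Set G) := inf_le_left.trans hn
    rw [← SetLike.mem_coe, Subgroup.coe_mul_of_right_le_normalizer_left D (H ⊓ normalizer (X : Set G)) h2] at h1
    obtain ⟨d, hd, n, hn', rfl⟩ := h1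
    exact ⟨d, hd, n, hn'.2, rfl⟩
  have key : ∀ h ∈ H, ∀ x ∈ V X (CZ (S : Subgroup G)), h * x * h⁻¹ ∈ V X (CZ (S : Subgroup G)) := by
    intro h hh x hx
    have h1 : V X (CZ (S : Subgroup G)) ≤ MulAut.conj h⁻¹ • V X (CZ (S : Subgroup G)) := by
      refine V_le fun c hc' => ?_
      obtain ⟨d, hd, n, hn', e⟩ := hdn (h * c) (H.mul_mem hh (hCH hc'))
      have h2 : MulAut.conj (h⁻¹ * (h * c)) • X ≤ MulAut.conj h⁻¹ • V X (CZ (S : Subgroup G)) := by
        rw [← conj_conj h⁻¹ (h * c), e, ← conj_conj d n, NoFF.Main.conj_eq_of_mem_normalizer hn']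
        exact conj_le_iff.2 (Z_le_V (hDC hd))
      rwa [inv_mul_cancel_left] at h2
    have h2 := h1 hx
    rw [mem_conj, inv_inv] at h2
    exact h2
  intro h hh
  rw [MX, mem_normalizer_iff]
  refine fun x => ⟨key h hh x, fun hx => ?_⟩
  have h1 := key h⁻¹ (inv_mem hh) _ hx
  have e : h⁻¹ * (h * x * h⁻¹) * h⁻¹⁻¹ = x := by group
  rwa [e] at h1

/-- `O₂(⟨X^C⟩) ≠ 1`. -/
theorem o2_V_ne (hG : IsCharacteristicTwoType G) (S : Sylow 2 G) {X : Subgroup G}
    (hX : X ≤ (S : Subgroup G)) (hX1 : X ≠ ⊥) : o2 (V X (CZ (S : Subgroup G))) ≠ ⊥ := by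
  intro h0
  have hS : (S : Subgroup G) ≠ ⊥ := fun h => hX1 (le_bot_iff.1 (h ▸ hX))
  set C := CZ (S : Subgroup G) with hC
  set Y := V X C with hY
  have hYC : Y ≤ C := V_le_self (hX.trans (le_CZ S))
  have hCY : C ≤ normalizer (Y : Set G) := le_MX_self X C
  have hchar := (isLoc_centralizer_zc S hS).char2 S hG
  -- `Y ∩ O₂(C) ≤ O₂(Y) = 1`
  have hdis : Y ⊓ o2 C = ⊥ := by
    rw [eq_bot_iff, ← h0]
    refine le_o2 inf_le_left ((o2_isPGroup C).to_le inf_le_right) ?_
    intro y hy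
    rw [mem_normalizer_iff]
    intro x
    have h1 := mem_normalizer_iff.1 (Subgroup.le_normalizer hy) x
    have h2 := mem_normalizer_iff.1 (le_normalizer_o2 C (hYC hy)) x
    rw [mem_inf, mem_inf, h1, h2]
  have hcom : Y ≤ centralizer (o2 C : Set G) := by
    intro y hy
    rw [mem_centralizer_iff]
    intro x hx
    have h1 : y * x * y⁻¹ * x⁻¹ ∈ Y ⊓ o2 C := by
      constructor
      · have e : y * x * y⁻¹ * x⁻¹ = y * (x * y⁻¹ * x⁻¹) := by group
        rw [e]
        exact mul_mem hy ((mem_normalizer_iff.1 (hCY (o2_le C hx)) _).1 (inv_mem hy))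
      · exact (o2 C).mul_mem ((mem_normalizer_iff.1 (le_normalizer_o2 C (hYC hy)) x).1 hx)
          ((o2 C).inv_mem hx)
    rw [hdis, mem_bot] at h1
    calc x * y = (y * x * y⁻¹ * x⁻¹)⁻¹ * (y * x) := by group
      _ = y * x := by rw [h1]; group
  have hle : Y ≤ o2 C := (le_inf hYC hcom).trans hchar
  have h1 : Y = ⊥ := by rw [← hdis]; exact (inf_eq_left.2 hle).symm
  exact hX1 (le_bot_iff.1 (h1 ▸ le_V X C))

/-- `M_X` normalises `O₂(⟨X^C⟩)`. -/
theorem MX_le_normalizer (X C : Subgroup G) : MX X C ≤ normalizer (o2 (V X C) : Set G) := by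
  intro m hm
  refine mem_normalizer_of_map_le ?_
  have h1 : (V X C).map (MulAut.conj m).toMonoidHom = V X C := NoFF.Main.conj_eq_of_mem_normalizer hm
  have h2 := o2_map_equiv (MulAut.conj m) (V X C)
  rw [h1] at h2
  exact h2.symm.le

/-- **`M_X` is a member of `L(S)`.** -/
theorem isLoc_MX (hG : IsCharacteristicTwoType G) (S : Sylow 2 G) {X : Subgroup G}
    (hX : X ≤ (S : Subgroup G)) (hX1 : X ≠ ⊥) :
    IsLoc (S : Subgroup G) (MX X (CZ (S : Subgroup G))) :=
  isLoc_of_le_normalizer S ((le_CZ S).trans (le_MX_self _ _)) (o2_isPGroup _) (o2_V_ne hG S hX hX1)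
    (MX_le_normalizer _ _)

/-- `⟨X^C⟩` centralises `U_H`, if `C ≤ H ≤ M_X`. -/
theorem V_cent_of_le {S X H : Subgroup G} (hX : X ≤ CZ S) (hH : H ≤ MX X (CZ S)) :
    V X (CZ S) ≤ centralizer (zl S H : Set G) := by
  have h1 : zc S ≤ centralizer (V X (CZ S) : Set G) := by
    refine le_centralizer_iff.1 ((V_le_self hX).trans le_rfl)
  have h2 : H ≤ normalizer ((centralizer (V X (CZ S) : Set G) : Subgroup G) : Set G) := by
    refine hH.trans fun m hm => mem_normalizer_of_map_le ?_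
    have h3 := conj_le_centralizer (g := m) (A := centralizer (V X (CZ S) : Set G)) (B := V X (CZ S)) le_rfl
    rw [NoFF.Main.conj_eq_of_mem_normalizer hm] at h3
    exact h3
  exact le_centralizer_iff.1 (zl_le h1 h2)

/-- `[X, U_(M_X)] = 1`. -/
theorem cent_MX {S X : Subgroup G} (hX : X ≤ CZ S) :
    X ≤ centralizer (zl S (MX X (CZ S)) : Set G) :=
  (le_V X (CZ S)).trans (V_cent_of_le hX le_rfl)

/-- `[X, U_H] = 1` iff `H ≤ M_X`, for `C ≤ H`. -/
theorem le_MX_iff (S : Sylow 2 G) {X H : Subgroup G} (hX : WC X (S : Subgroup G))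
    (hCH : CZ (S : Subgroup G) ≤ H) :
    H ≤ MX X (CZ (S : Subgroup G)) ↔ X ≤ centralizer (zl (S : Subgroup G) H : Set G) :=
  ⟨fun h => (le_V X _).trans (V_cent_of_le (hX.le.trans (le_CZ S)) h), le_MX S hX hCH⟩

/-- **Every nontrivial weakly closed subgroup of `S` moves some `U_P`, `P ∈ P*(S)`.** -/
theorem exists_not_cent (hG : Ctx G) (S : Sylow 2 G) (hF : Full (S : Subgroup G)) {X : Subgroup G}
    (hX : WC X (S : Subgroup G)) (hX1 : X ≠ ⊥) :
    ∃ P : Subgroup G, IsParS (S : Subgroup G) P ∧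
      ¬ X ≤ centralizer (zl (S : Subgroup G) (P ⊔ CZ (S : Subgroup G)) : Set G) := by
  by_contra hcon
  push Not at hcon
  refine o2_V_ne hG.char2 S hX.le hX1 (eq_bot_of_norm hG S hF (o2_isPGroup _) (fun P hP => ?_) ?_)
  · exact (le_sup_left.trans (le_MX S hX le_sup_right (hcon P hP))).trans (MX_le_normalizer _ _)
  · exact (le_MX_self _ _).trans (MX_le_normalizer _ _)

omit [Finite G] in
theorem jj_ne_bot [Finite G] {T : Subgroup G} (hT : IsPGroup 2 T) (hne : T ≠ ⊥) : jj T ≠ ⊥ := by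
  intro h1
  have : Fact (Nat.Prime 2) := ⟨Nat.prime_two⟩
  have h2 : 2 ∣ Nat.card T := by
    rcases hT.card_eq_or_dvd with h3 | h3
    · exact absurd ((Subgroup.card_eq_one).1 h3) hne
    · exact h3
  have h3 := Cfsg.Agent.PLocal.ThompsonJ.thompsonSubgroup_ne_bot (G := T) h2
  apply h3
  have h4 : (thompsonSubgroup 2 T).map T.subtype = ⊥ := h1
  rwa [Subgroup.map_eq_bot_iff_of_injective _ T.subtype_injective] at h4

/-- **LEMMA J0**: some `P ∈ P*(S)` has `J(S) ≰ C(U_P)`, `U_P = ⟨Z^⟨P, C_G(Z)⟩⟩`. -/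
theorem exists_jj (hG : Ctx G) (S : Sylow 2 G) (hF : Full (S : Subgroup G)) :
    ∃ P : Subgroup G, IsParS (S : Subgroup G) P ∧
      ¬ jj (S : Subgroup G) ≤ centralizer (zl (S : Subgroup G) (P ⊔ CZ (S : Subgroup G)) : Set G) :=
  exists_not_cent hG S hF (wc_jj S) (jj_ne_bot S.isPGroup' (hG.sylow_ne_bot S))

/-! ### (R1) -/

/-- `J(S) ≤ O₂(P)` implies `V_P ≤ Ω₁(Z(J(S)))`. -/
theorem zl_le_zj (hG : IsCharacteristicTwoType G) (S : Sylow 2 G) {P : Subgroup G}
    (hP : IsLoc (S : Subgroup G) P) (hJ : jj (S : Subgroup G) ≤ o2 P) :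
    zl (S : Subgroup G) P ≤ zj (S : Subgroup G) := by
  intro v hv
  have h1 := mem_zc.1 (hP.zl_le S hG hv)
  have h2 : ∀ y ∈ jj (S : Subgroup G), y * v = v * y := fun y hy => h1.2.1 y (hJ hy)
  rw [ChoiceBase.mem_zj]
  exact ⟨ChoiceBase.mem_jj_of_comm (hP.o2_le S h1.1) h1.2.2 h2, h1.2.2, h2⟩

/-- **(R1)**: `P ∈ P*(S)` and `J(S) ≤ O₂(P)` imply `P ≤ N_G(B)`, `B` the Baumann subgroup of `S`. -/
theorem le_normalizer_bau (hG : IsCharacteristicTwoType G) (S : Sylow 2 G) {P : Subgroup G}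
    (hP : IsParS (S : Subgroup G) P) (hJ : jj (S : Subgroup G) ≤ o2 P) :
    P ≤ normalizer (bau (S : Subgroup G) : Set G) := by
  have hSP := hP.le
  have hSs := MinSimple.Basic.not_dvd_relIndex S hSP
  -- `P` normalises `Ω₁(Z(J(S)))`
  have hzj : zj (S : Subgroup G) = zj (o2 P) :=
    ChoiceBase.zj_congr (MinSimple.Basic.jj_eq_of_le hJ (hP.isLoc.o2_le S)).symm
  have hPz : P ≤ normalizer (zj (S : Subgroup G) : Set G) := by
    intro p hp
    refine mem_normalizer_of_map_le ?_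
    rw [hzj]
    have h1 : (o2 P).map (MulAut.conj p).toMonoidHom = o2 P :=
      NoFF.Main.conj_eq_of_mem_normalizer (le_normalizer_o2 P hp)
    have h2 := ChoiceBase.zj_cj p (o2 P)
    have h3 : ChoiceBase.cj p (o2 P) = o2 P := h1
    rw [h3] at h2
    exact h2.symm.le
  set D : Subgroup G := P ⊓ centralizer (zj (S : Subgroup G) : Set G) with hD
  have hPD : P ≤ normalizer (D : Set G) := by
    intro p hp
    refine mem_normalizer_of_map_le ?_
    have h1 := conj_le_centralizer (g := p) (A := centralizer (zj (S : Subgroup G) : Set G))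
      (B := zj (S : Subgroup G)) le_rfl
    rw [NoFF.Main.conj_eq_of_mem_normalizer (hPz hp)] at h1
    rintro _ ⟨x, hx, rfl⟩
    exact ⟨P.mul_mem (P.mul_mem hp hx.1) (P.inv_mem hp), h1 ⟨x, hx.2, rfl⟩⟩
  have hSD : (S : Subgroup G) ⊓ D = bau (S : Subgroup G) := by
    rw [hD, bau, ← inf_assoc, inf_eq_left.2 hSP]
  have hf := MinSimple.Basic.frattini hSP S.isPGroup' hSs hPD
  rw [hSD] at hf
  obtain ⟨M, hM, hmax⟩ := hP.exists_max
  -- `D S ≤ M`
  have hDV : D ≤ P ⊓ centralizer (zl (S : Subgroup G) P : Set G) :=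
    inf_le_inf_left _ (centralizer_le (zl_le_zj hG S hP.isLoc hJ))
  have hDM : D ≤ M := by
    have hne : (P ⊓ centralizer (zl (S : Subgroup G) P : Set G)) ⊔ (S : Subgroup G) ≠ P := by
      intro h
      apply hP.not_zc
      have h2 : P ≤ centralizer (zc (S : Subgroup G) : Set G) := by
        rw [← h]
        exact sup_le (inf_le_right.trans (centralizer_le (zc_le_zl _ P))) (le_centralizer_zc _)
      exact h2.trans (centralizer_le_normalizer _)
    exact (hDV.trans le_sup_left).trans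
      (hmax _ le_sup_right (lt_of_le_of_ne (sup_le inf_le_left hSP) hne))
  by_contra hcon
  have h1 : P ⊓ normalizer (bau (S : Subgroup G) : Set G) ≤ M := by
    refine hmax _ (le_inf hSP ?_) (lt_of_le_of_ne inf_le_left fun h => hcon (inf_eq_left.1 h))
    rw [← hSD]
    intro s hs
    rw [mem_normalizer_iff]
    intro x
    have h2 := mem_normalizer_iff.1 (Subgroup.le_normalizer hs) x
    have h3 := mem_normalizer_iff.1 (hPD (hSP hs)) x
    have h4 : x ∈ (S : Subgroup G) ⊓ D ↔ s * x * s⁻¹ ∈ (S : Subgroup G) ⊓ D := by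
      rw [mem_inf, mem_inf (x := s * x * s⁻¹), h2, h3]
    exact h4
  exact absurd (hf.trans (sup_le hDM h1)) hM.not_ge

end finite

end Cfsg.Agent.Omega.NO3L.JZero
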