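import Cfsg.Agent.Omega.NOThreeL.Pair

/-!
# NO-3L, LEMMA P (point stabiliser lemma), #14019 (helper582), K-free, all `|Z|`

`C_G(Z) ≤ C ≤ H i`, `Z ≤ U i ≤ R i ≤ Q`, `H i` normalises `U i`, `R i`, `C` normalises `Q`,
`Q ∩ C_G(U i) ≤ R i`.  (`R i = O₂(H i)`, `Q = O₂(C)`.)  The vertices are the cosets `g H i`, i.e. pairs
`(i, g)`; two vertices are adjacent if the cosets meet (this includes equality); `Near H n a b`: `b` is
reached from `a` in at most `n` steps.

* `Data.le_R` : LEMMA P: if `U_a`, `U_b` commute for all `a`, `b` at distance `< d`, then `U_a ≤ R_c` for all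
  `a`, `c` at distance `< d`;
* `Crit` : `U_i^g ≤ R k ≤ Q`, `U j ≤ (R l)^g ≤ Q^g`, `k ≠ j`, `l ≠ i`, `U_i^g`, `U_j` do not commute;
* `Data.exists_crit` : if some `U i` and `(U j)^x`, `x ∈ ⟨H k⟩`, do not commute, then there is a critical pair,
  with the distance `n + 1` and LEMMA P for all distances `≤ n`.
-/

set_option autoImplicit false

namespace Cfsg.Agent.Omega.NO3L.LemP

open Subgroup MulAction Pointwise Cfsg
open Cfsg.Agent.Omega.NoFF.Basic (conj_conj mem_conj conj_le_iff conj_le_centralizer comm_symm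
  comm_mono)
open Cfsg.Agent.Omega.NOThreeL.Pair (conj_eq_of_mem conj_le_normalizer)

universe u v

variable {G : Type u} [Group G] {ι : Type v}

/-- The hypotheses of LEMMA P. -/
structure Data (Z C Q : Subgroup G) (H U R : ι → Subgroup G) : Prop where
  cen : centralizer (Z : Set G) ≤ C
  CH : ∀ i, C ≤ H i
  ZU : ∀ i, Z ≤ U i
  HU : ∀ i, H i ≤ normalizer (U i : Set G)
  HR : ∀ i, H i ≤ normalizer (R i : Set G)
  UR : ∀ i, U i ≤ R i
  RQ : ∀ i, R i ≤ Q
  QR : ∀ i, Q ⊓ centralizer (U i : Set G) ≤ R i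

/-! ### The graph of cosets -/

section graph

variable (H : ι → Subgroup G)

/-- the same coset -/
def Same (a b : ι × G) : Prop := a.1 = b.1 ∧ a.2⁻¹ * b.2 ∈ H a.1

/-- the cosets meet (equality allowed) -/
def Adj (a b : ι × G) : Prop := ∃ x : G, a.2⁻¹ * x ∈ H a.1 ∧ b.2⁻¹ * x ∈ H b.1

/-- `b` is reached from `a` in at most `n` steps. -/
def Near : ℕ → ι × G → ι × G → Prop
  | 0, a, b => Same H a b
  | n + 1, a, b => ∃ c, Near n a c ∧ Adj H c b

variable {H}

theorem Same.symm {a b : ι × G} (h : Same H a b) : Same H b a := by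
  obtain ⟨h1, h2⟩ := h
  refine ⟨h1.symm, ?_⟩
  rw [← h1]
  have h3 := (H a.1).inv_mem h2
  rwa [mul_inv_rev, inv_inv] at h3

theorem Adj.symm {a b : ι × G} (h : Adj H a b) : Adj H b a := by
  obtain ⟨x, h1, h2⟩ := h
  exact ⟨x, h2, h1⟩

theorem Same.adj {a b : ι × G} (h : Same H a b) : Adj H a b := by
  refine ⟨b.2, h.2, ?_⟩
  rw [inv_mul_cancel]
  exact one_mem _

theorem Adj.same {a b : ι × G} (h : Adj H a b) (e : a.1 = b.1) : Same H a b := by
  obtain ⟨x, h1, h2⟩ := h
  refine ⟨e, ?_⟩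
  rw [← e] at h2
  have h3 := (H a.1).mul_mem h1 ((H a.1).inv_mem h2)
  have h4 : a.2⁻¹ * x * (b.2⁻¹ * x)⁻¹ = a.2⁻¹ * b.2 := by group
  rwa [h4] at h3

theorem Same.trans_adj {a b c : ι × G} (h : Same H b c) (h1 : Adj H a b) : Adj H a c := by
  obtain ⟨x, h2, h3⟩ := h1
  refine ⟨x, h2, ?_⟩
  obtain ⟨h4, h5⟩ := h
  rw [← h4]
  have h6 := (H b.1).mul_mem ((H b.1).inv_mem h5) h3
  have h7 : (b.2⁻¹ * c.2)⁻¹ * (b.2⁻¹ * x) = c.2⁻¹ * x := by group
  rwa [h7] at h6

theorem Same.refl (a : ι × G) : Same H a a := ⟨rfl, by rw [inv_mul_cancel]; exact one_mem _⟩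

theorem Same.trans {a b c : ι × G} (h : Same H a b) (h' : Same H b c) : Same H a c :=
  (h'.trans_adj h.adj).same (h.1.trans h'.1)

theorem Near.cons {n : ℕ} {a b c : ι × G} (h : Adj H a b) (h' : Near H n b c) : Near H (n + 1) a c := by
  induction n generalizing c with
  | zero => exact ⟨a, Same.refl a, h'.trans_adj h⟩
  | succ n ih =>
    obtain ⟨e, h1, h2⟩ := h'
    exact ⟨e, ih h1, h2⟩

theorem Near.symm {n : ℕ} {a b : ι × G} (h : Near H n a b) : Near H n b a := by
  induction n generalizing b with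
  | zero => exact Same.symm h
  | succ n ih =>
    obtain ⟨e, h1, h2⟩ := h
    exact Near.cons h2.symm (ih h1)

theorem Near.mono_succ {n : ℕ} {a b : ι × G} (h : Near H n a b) : Near H (n + 1) a b :=
  ⟨b, h, (Same.refl b).adj⟩

theorem Near.mono {n m : ℕ} {a b : ι × G} (h : Near H n a b) (hnm : n ≤ m) : Near H m a b := by
  induction hnm with
  | refl => exact h
  | step _ ih => exact ih.mono_succ

theorem Near.smul {n : ℕ} {a b : ι × G} (h : Near H n a b) (g : G) :
    Near H n (a.1, g * a.2) (b.1, g * b.2) := by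
  induction n generalizing b with
  | zero =>
    obtain ⟨h1, h2⟩ := h
    refine ⟨h1, ?_⟩
    simpa [mul_assoc] using h2
  | succ n ih =>
    obtain ⟨e, h1, x, h2, h3⟩ := h
    exact ⟨(e.1, g * e.2), ih h1, g * x, by simpa [mul_assoc] using h2, by simpa [mul_assoc] using h3⟩

theorem Near.mem {n : ℕ} {a b : ι × G} (h : Near H n a b) : a.2⁻¹ * b.2 ∈ (⨆ i, H i : Subgroup G) := by
  induction n generalizing b with
  | zero => exact (le_iSup H a.1) h.2
  | succ n ih =>
    obtain ⟨e, h1, x, h2, h3⟩ := h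
    have h4 := mul_mem (mul_mem (ih h1) ((le_iSup H e.1) h2)) (inv_mem ((le_iSup H b.1) h3))
    have h5 : a.2⁻¹ * e.2 * (e.2⁻¹ * x) * (b.2⁻¹ * x)⁻¹ = a.2⁻¹ * b.2 := by group
    rwa [h5] at h4

/-- The graph is connected on the cosets in `⟨H k⟩`. -/
theorem exists_near (i j : ι) {x : G} (hx : x ∈ (⨆ i, H i : Subgroup G)) :
    ∃ n, Near H n (i, 1) (j, x) := by
  obtain ⟨l, hl, rfl⟩ := Cfsg.Agent.Omega.NOThreeL.Pair.exists_list hx
  suffices h : ∀ (l : List G), (∀ y ∈ l, ∃ k, y ∈ H k) → ∀ g : G,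
      ∃ n, Near H n (i, g) (j, g * l.prod) by
    obtain ⟨n, hn⟩ := h l hl 1
    exact ⟨n, by rwa [one_mul] at hn⟩
  intro l
  induction l using List.reverseRecOn generalizing j with
  | nil =>
    intro _ g
    refine ⟨1, (i, g), Same.refl _, g, ?_, ?_⟩
    · simp
    · simp
  | append_singleton L b ih =>
    intro hL g
    obtain ⟨k, hk⟩ := hL b (by simp)
    obtain ⟨n, hn⟩ := ih k (fun y hy => hL y (by simp [hy])) g
    refine ⟨n + 1, (k, g * L.prod), hn, g * L.prod * b, ?_, ?_⟩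
    · simpa [mul_assoc] using hk
    · simp [mul_assoc]

end graph

/-! ### Subgroups at the vertices -/

section vert

/-- the conjugate belonging to the vertex `a` -/
def vx (F : ι → Subgroup G) (a : ι × G) : Subgroup G := MulAut.conj a.2 • F a.1

theorem vx_mk (F : ι → Subgroup G) (i : ι) (g : G) : vx F (i, g) = MulAut.conj g • F i := rfl

theorem vx_eq {H F : ι → Subgroup G} (h : ∀ i, H i ≤ normalizer (F i : Set G)) {a : ι × G} {x : G}
    (hx : a.2⁻¹ * x ∈ H a.1) : vx F a = MulAut.conj x • F a.1 := by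
  have h1 := conj_eq_of_mem (h a.1 hx)
  have h2 : MulAut.conj a.2 • MulAut.conj (a.2⁻¹ * x) • F a.1 = MulAut.conj x • F a.1 := by
    rw [conj_conj, mul_inv_cancel_left]
  rw [← h2, h1, vx]

theorem vx_same {H F : ι → Subgroup G} (h : ∀ i, H i ≤ normalizer (F i : Set G)) {a b : ι × G}
    (hab : Same H a b) : vx F a = vx F b := by
  rw [vx_eq h hab.2, vx, hab.1]

theorem vx_smul (F : ι → Subgroup G) (a : ι × G) (g : G) :
    vx F (a.1, g * a.2) = MulAut.conj g • vx F a := by
  rw [vx, vx, conj_conj]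

theorem vx_mono {F F' : ι → Subgroup G} (h : ∀ i, F i ≤ F' i) (a : ι × G) : vx F a ≤ vx F' a :=
  conj_le_iff.2 (h a.1)

theorem conj_inf (g : G) (A B : Subgroup G) :
    MulAut.conj g • (A ⊓ B) = MulAut.conj g • A ⊓ MulAut.conj g • B := Subgroup.smul_inf _ _ _

end vert

variable {Z C Q : Subgroup G} {H U R : ι → Subgroup G}

/-- All `U_a`, `U_b` at distance `< d` commute. -/
def Comm (H U : ι → Subgroup G) (d : ℕ) : Prop :=
  ∀ n < d, ∀ a b : ι × G, Near H n a b → vx U a ≤ centralizer (vx U b : Set G)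

theorem Comm.mono {d e : ℕ} (h : Comm H U d) (hde : e ≤ d) : Comm H U e :=
  fun n hn => h n (lt_of_lt_of_le hn hde)

theorem Comm.of_near {d : ℕ} (h : Comm H U (d + 1)) {a b : ι × G} (hab : Near H d a b) :
    vx U a ≤ centralizer (vx U b : Set G) := h d (Nat.lt_succ_self d) a b hab

/-- **LEMMA P** (#14019): if `U_a`, `U_b` commute for all `a`, `b` at distance `< d`, then `U_a ≤ R_c` for all
`a`, `c` at distance `< d`. -/
theorem Data.le_R (h : Data Z C Q H U R) {d : ℕ} (hd : Comm H U d) :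
    ∀ n < d, ∀ a c : ι × G, Near H n a c → vx U a ≤ vx R c := by
  intro n
  induction n with
  | zero =>
    intro _ a c hac
    rw [vx_same h.HU hac]
    exact vx_mono h.UR c
  | succ n ih =>
    intro hn a c hac
    have hcomm := hd (n + 1) hn a c hac
    obtain ⟨e, h1, x, h2, h3⟩ := hac
    have h4 := ih (Nat.lt_of_succ_lt hn) a e h1
    rw [vx_eq h.HR h2] at h4
    rw [vx_eq h.HU h3] at hcomm
    have h5 : vx U a ≤ MulAut.conj x • Q ⊓ MulAut.conj x • centralizer (U c.1 : Set G) := by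
      refine le_inf (h4.trans (conj_le_iff.2 (h.RQ e.1))) ?_
      intro y hy
      rw [mem_conj, mem_centralizer_iff]
      intro u hu
      have h6 := mem_centralizer_iff.mp (hcomm hy) (x * u * x⁻¹) (by
        change _ ∈ MulAut.conj x • U c.1
        rw [mem_conj]
        simpa [mul_assoc] using hu)
      have h7 := congrArg (fun t => x⁻¹ * t * x) h6
      simpa [mul_assoc] using h7
    rw [← conj_inf] at h5
    rw [vx_eq h.HR h3]
    exact h5.trans (conj_le_iff.2 (h.QR c.1))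

/-- A critical pair `(U_i^g, U_j)`: a neighbour `k` of `j` and a neighbour `l` of `i` on the path. -/
structure Crit (Q : Subgroup G) (H U R : ι → Subgroup G) (i j k l : ι) (g : G) : Prop where
  mem : g ∈ (⨆ i, H i : Subgroup G)
  kj : k ≠ j
  li : l ≠ i
  le : MulAut.conj g • U i ≤ R k
  ge : U j ≤ MulAut.conj g • R l
  ne : ¬ MulAut.conj g • U i ≤ centralizer (U j : Set G)

theorem conj_comm_iff {g : G} {A B : Subgroup G} :
    MulAut.conj g • A ≤ centralizer ((MulAut.conj g • B : Subgroup G) : Set G) ↔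
      A ≤ centralizer (B : Set G) := by
  constructor
  · intro h1
    have h2 := conj_le_centralizer (g := g⁻¹) h1
    rwa [conj_conj, conj_conj, inv_mul_cancel, map_one, one_smul, one_smul] at h2
  · exact fun h1 => conj_le_centralizer h1

/-- the last edge of a path of least length joining two noncommuting vertices -/
theorem Data.last (h : Data Z C Q H U R) {n : ℕ} (hd : Comm H U (n + 1)) {a b : ι × G}
    (hab : Near H (n + 1) a b) (hne : ¬ vx U a ≤ centralizer (vx U b : Set G)) :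
    ∃ (k : ι) (x : G), k ≠ b.1 ∧ b.2⁻¹ * x ∈ H b.1 ∧ vx U a ≤ MulAut.conj x • R k := by
  obtain ⟨e, h1, h2⟩ := hab
  have hkb : e.1 ≠ b.1 := by
    intro he
    apply hne
    have h3 := hd.of_near h1
    rwa [vx_same h.HU (h2.same he)] at h3
  obtain ⟨x, h3, h4⟩ := h2
  refine ⟨e.1, x, hkb, h4, ?_⟩
  rw [← vx_eq h.HR h3]
  exact h.le_R hd n (Nat.lt_succ_self n) a e h1

theorem Data.exists_crit_of (h : Data Z C Q H U R) {n : ℕ} (hd : Comm H U (n + 1)) {a b : ι × G}
    (hab : Near H (n + 1) a b) (hne : ¬ vx U a ≤ centralizer (vx U b : Set G)) :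
    ∃ (k l : ι) (g : G), Crit Q H U R a.1 b.1 k l g ∧ Near H (n + 1) (a.1, g) (b.1, 1) := by
  obtain ⟨k, x, h1, h2, h3⟩ := h.last hd hab hne
  obtain ⟨l, y, h4, h5, h6⟩ := h.last hd hab.symm fun h7 => hne (comm_symm h7)
  have hU1 : vx U a = MulAut.conj y • U a.1 := vx_eq h.HU h5
  have hU2 : vx U b = MulAut.conj x • U b.1 := vx_eq h.HU h2
  have e1 : MulAut.conj x • MulAut.conj (x⁻¹ * y) • U a.1 = vx U a := by
    rw [conj_conj, mul_inv_cancel_left, hU1]
  have e2 : MulAut.conj x • MulAut.conj (x⁻¹ * y) • R l = MulAut.conj y • R l := by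
    rw [conj_conj, mul_inv_cancel_left]
  have hN : Near H (n + 1) (a.1, x⁻¹ * y) (b.1, 1) := by
    have h8 : Same H a (a.1, y) := ⟨rfl, h5⟩
    have h9 : Same H b (b.1, x) := ⟨rfl, h2⟩
    have h10 : Near H (n + 1) (a.1, y) (b.1, x) := by
      obtain ⟨e, h11, h12⟩ := hab
      refine ⟨e, ?_, h9.trans_adj h12⟩
      cases n with
      | zero => exact h8.symm.trans h11
      | succ n =>
        have h13 := h11.symm
        obtain ⟨f, h14, h15⟩ := h13
        have h16 : Near H (n + 1) e (a.1, y) := ⟨f, h14, h8.trans_adj h15⟩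
        exact h16.symm
    have h11 := h10.smul x⁻¹
    simpa using h11
  refine ⟨k, l, x⁻¹ * y, ⟨?_, h1, h4, ?_, ?_, ?_⟩, hN⟩
  · have h8 := hN.symm.mem
    simpa using h8
  · rw [← conj_le_iff (g := x), e1]
    exact h3
  · rw [← conj_le_iff (g := x), e2, ← hU2]
    exact h6
  · intro h7
    apply hne
    rw [← e1, hU2]
    exact conj_comm_iff.2 h7

/-- **LEMMA P, COROLLARY**: if some `U i`, `(U j)^x`, `x ∈ ⟨H k⟩`, do not commute, there is a critical pair. -/
theorem Data.exists_crit (h : Data Z C Q H U R) (hab : ∀ i, U i ≤ centralizer (U i : Set G))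
    (hne : ¬ ∀ i j, ∀ x ∈ (⨆ i, H i : Subgroup G),
      U i ≤ centralizer ((MulAut.conj x • U j : Subgroup G) : Set G)) :
    ∃ n, Comm H U (n + 1) ∧
      (∀ m ≤ n, ∀ a c : ι × G, Near H m a c → vx U a ≤ vx R c) ∧
      ∃ (i j k l : ι) (g : G), Crit Q H U R i j k l g ∧ Near H (n + 1) (i, g) (j, 1) := by
  classical
  have hex : ∃ n, ∃ a b : ι × G, Near H n a b ∧ ¬ vx U a ≤ centralizer (vx U b : Set G) := by
    push Not at hne
    obtain ⟨i, j, x, hx, h1⟩ := hne
    obtain ⟨n, hn⟩ := exists_near i j hx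
    refine ⟨n, (i, 1), (j, x), hn, ?_⟩
    rwa [vx_mk, vx_mk, map_one, one_smul]
  obtain ⟨a, b, h1, h2⟩ := Nat.find_spec hex
  have hmin : Comm H U (Nat.find hex) := by
    intro m hm a b hab
    by_contra h3
    exact Nat.find_min hex hm ⟨a, b, hab, h3⟩
  cases hn : Nat.find hex with
  | zero =>
    exfalso
    rw [hn] at h1
    apply h2
    rw [vx_same h.HU h1]
    exact conj_comm_iff.2 (hab b.1)
  | succ n =>
    rw [hn] at h1 hmin
    obtain ⟨k, l, g, h3, h4⟩ := h.exists_crit_of hmin h1 h2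
    exact ⟨n, hmin, fun m hm => h.le_R hmin m (Nat.lt_succ_of_le hm), a.1, b.1, k, l, g, h3, h4⟩

/-! ### Consequences for a critical pair -/

namespace Crit

variable {i j k l : ι} {g : G}

theorem le_Q (hc : Crit Q H U R i j k l g) (h : Data Z C Q H U R) : MulAut.conj g • U i ≤ Q :=
  hc.le.trans (h.RQ k)

theorem ge_Q (hc : Crit Q H U R i j k l g) (h : Data Z C Q H U R) : U j ≤ MulAut.conj g • Q :=
  hc.ge.trans (conj_le_iff.2 (h.RQ l))

theorem symm (hc : Crit Q H U R i j k l g) : Crit Q H U R j i l k g⁻¹ where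
  mem := inv_mem hc.mem
  kj := hc.li
  li := hc.kj
  le := by
    rw [← conj_le_iff (g := g), conj_conj, mul_inv_cancel, map_one, one_smul]
    exact hc.ge
  ge := by
    rw [← conj_le_iff (g := g), conj_conj, mul_inv_cancel, map_one, one_smul]
    exact hc.le
  ne := by
    intro h1
    apply hc.ne
    have h2 := (conj_comm_iff (g := g)).2 h1
    rw [conj_conj, mul_inv_cancel, map_one, one_smul] at h2
    exact comm_symm h2

/-- the pair is mutual -/
theorem mutualPair (hc : Crit Q H U R i j k l g) (h : Data Z C Q H U R) (hQ : Q ≤ C) :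
    MulAut.conj g • U i ≤ normalizer (U j : Set G) ∧
      U j ≤ normalizer ((MulAut.conj g • U i : Subgroup G) : Set G) := by
  constructor
  · exact (hc.le_Q h).trans (hQ.trans ((h.CH j).trans (h.HU j)))
  · refine (hc.ge_Q h).trans ?_
    refine le_trans (conj_le_iff.2 (hQ.trans (h.CH i))) ?_
    exact conj_le_normalizer (h.HU i)

/-- `[U_i^g, U_j] ≤ U_i^g ∩ U_j` -/
theorem commutator_le (hc : Crit Q H U R i j k l g) (h : Data Z C Q H U R) (hQ : Q ≤ C) :
    ⁅MulAut.conj g • U i, U j⁆ ≤ (MulAut.conj g • U i) ⊓ U j := by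
  obtain ⟨h1, h2⟩ := hc.mutualPair h hQ
  rw [Subgroup.commutator_le]
  intro a ha v hv
  rw [commutatorElement_def]
  refine ⟨?_, ?_⟩
  · rw [mul_assoc, mul_assoc]
    refine mul_mem ha ?_
    rw [← mul_assoc]
    exact (mem_normalizer_iff.mp (h2 hv) _).mp ((MulAut.conj g • U i : Subgroup G).inv_mem ha)
  · exact mul_mem ((mem_normalizer_iff.mp (h1 ha) v).mp hv) ((U j).inv_mem hv)

/-- The point `Z^g` of `U_i^g` is centralised by `U_j` up to `C`: `U_j ≤ C^g`, and `U_i^g ≤ C`. -/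
theorem le_C (hc : Crit Q H U R i j k l g) (h : Data Z C Q H U R) (hQ : Q ≤ C) :
    MulAut.conj g • U i ≤ C ∧ U j ≤ MulAut.conj g • C :=
  ⟨(hc.le_Q h).trans hQ, (hc.ge_Q h).trans (conj_le_iff.2 hQ)⟩

end Crit

/-- distance 1: adjacent vertices -/
theorem Data.adj_iff (h : Data Z C Q H U R) {i j : ι} {a b : ι × G} (hab : Adj H a b) (hi : a.1 = i)
    (hj : b.1 = j) : vx U a ≤ centralizer (vx U b : Set G) ↔ U i ≤ centralizer (U j : Set G) := by
  obtain ⟨x, h1, h2⟩ := hab
  rw [vx_eq h.HU h1, vx_eq h.HU h2, hi, hj]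
  exact conj_comm_iff

/-- If all vertices at distance `≤ 1` commute, then `[U i, U j] = 1` for all `i`, `j`. -/
theorem comm_of_Comm_two (hd : Comm H U 2) (i j : ι) : U i ≤ centralizer (U j : Set G) := by
  have h1 : Near H 1 (i, (1 : G)) (j, 1) := ⟨(i, 1), Same.refl _, 1, by simp, by simp⟩
  have h2 := hd 1 (by norm_num) _ _ h1
  rwa [vx_mk, vx_mk, map_one, one_smul, one_smul] at h2

/-- A noncommuting pair of vertices at distance 1 has `[U i, U j] ≠ 1`. -/
theorem Data.not_comm_of_near_one (h : Data Z C Q H U R) {a b : ι × G} (hab : Near H 1 a b)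
    (hne : ¬ vx U a ≤ centralizer (vx U b : Set G)) : ¬ U a.1 ≤ centralizer (U b.1 : Set G) := by
  obtain ⟨e, h1, h2⟩ := hab
  have h3 : Adj H e b := h2
  intro h4
  apply hne
  have h5 : vx U a = vx U e := vx_same h.HU h1
  rw [h5]
  exact (h.adj_iff h3 rfl rfl).2 (by rw [← h1.1]; exact h4)

end Cfsg.Agent.Omega.NO3L.LemP
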