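import Cfsg.Agent.Omega.NO3L.LemP
import Cfsg.Agent.Omega.FFThm

/-!
# NO-3L, LEMMA P in the frame (#14019, helper582)

`S` a Sylow 2-subgroup, `Z = Ω₁(Z(S))`, `C_G(Z) ≤ C ≤ H i`, `H i ∈ L(S)`, `U_i = zl S (H i) = ⟨Z^(H i)⟩`,
`R i = O₂(H i)`, `Q = O₂(C)`.

* `data_loc` : the hypotheses of `LemP`;
* `exists_crit_loc` : `O₂(⟨H i⟩) = 1` gives a critical pair: `(U_i)^g ≤ O₂(H k) ≤ O₂(C)`,
  `U_j ≤ O₂(H l)^g ≤ O₂(C)^g`, `k ≠ j`, `l ≠ i`, not commuting, and LEMMA P below the critical distance;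
* `exists_off_loc` : moreover `(U_i)^g` is an offender on `U_j` (`FFThm.Off`).
-/

set_option autoImplicit false

namespace Cfsg.Agent.Omega.NO3L.LemP

open Subgroup MulAction Pointwise Cfsg Cfsg.Agent.ZN
open Cfsg.Agent.Omega.NoFF.Basic (conj_conj mem_conj conj_le_iff conj_le_centralizer comm_symm
  comm_mono)
open Cfsg.Agent.Omega.NOThreeL.Pair (conj_eq_of_mem conj_le_normalizer zl_abel exists_mutual_loc)
open Cfsg.Agent.Omega.MinPar (IsPar IsParS IsLoc NonLoc)
open Cfsg.Agent.Omega.FFThm (Off)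
open Cfsg.Agent.MinSimple.Basic (o2_normal_le_o2)
open Cfsg.Agent.MinSimple.VModule (le_o2 mem_zc zc_le zc_le_zl zl_le_zc zl_comm zl_sq le_normalizer_o2
  le_normalizer_zl zl_le inf_centralizer_zl o2_le_centralizer_zl normalizer_le_normalizer_zc)
open scoped commutatorElement

universe u v

variable {G : Type u} [Group G] {ι : Type v}

/-- `N_G(U)` normalises `C_G(U)`. -/
theorem normalizer_le_normalizer_cent (U : Subgroup G) :
    normalizer (U : Set G) ≤ normalizer (centralizer (U : Set G) : Set G) := by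
  have key : ∀ g ∈ normalizer (U : Set G), ∀ y ∈ centralizer (U : Set G),
      g * y * g⁻¹ ∈ centralizer (U : Set G) := by
    intro g hg y hy
    rw [mem_centralizer_iff]
    intro u hu
    have h1 : g⁻¹ * u * g ∈ U := by
      have h2 := (mem_normalizer_iff.mp ((normalizer (U : Set G)).inv_mem hg) u).mp hu
      rwa [inv_inv] at h2
    have h3 := mem_centralizer_iff.mp hy _ h1
    have h4 := congrArg (fun t => g * t * g⁻¹) h3
    simpa [mul_assoc] using h4
  intro g hg
  rw [mem_normalizer_iff]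
  intro y
  refine ⟨key g hg y, fun hy => ?_⟩
  have h1 := key g⁻¹ ((normalizer (U : Set G)).inv_mem hg) _ hy
  simpa [mul_assoc] using h1

theorem le_normalizer_inf {X A B : Subgroup G} (hA : X ≤ normalizer (A : Set G))
    (hB : X ≤ normalizer (B : Set G)) : X ≤ normalizer ((A ⊓ B : Subgroup G) : Set G) := by
  intro x hx
  rw [mem_normalizer_iff]
  intro y
  exact ⟨fun hy => ⟨(mem_normalizer_iff.mp (hA hx) y).mp hy.1, (mem_normalizer_iff.mp (hB hx) y).mp hy.2⟩,
    fun hy => ⟨(mem_normalizer_iff.mp (hA hx) y).mpr hy.1, (mem_normalizer_iff.mp (hB hx) y).mpr hy.2⟩⟩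

/-- `U ⊴ H`, `C_G(U) ≤ C ≤ H` imply `O₂(C) ∩ C_G(U) ≤ O₂(H)`. -/
theorem o2_inf_centralizer_le {C H U : Subgroup G} (h1 : centralizer (U : Set G) ≤ C) (h2 : C ≤ H)
    (h3 : H ≤ normalizer (U : Set G)) : o2 C ⊓ centralizer (U : Set G) ≤ o2 H := by
  have h4 : o2 C ⊓ centralizer (U : Set G) ≤ o2 (centralizer (U : Set G)) :=
    le_o2 inf_le_right ((Cfsg.Agent.MinSimple.CosetFam.o2_isPGroup C).to_le inf_le_left)
      (le_normalizer_inf (h1.trans (le_normalizer_o2 C)) le_normalizer)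
  refine h4.trans (le_o2 ?_ (Cfsg.Agent.MinSimple.CosetFam.o2_isPGroup _) ?_)
  · exact (Cfsg.Agent.MinSimple.CosetFam.o2_le_self _).trans (h1.trans h2)
  · exact h3.trans ((normalizer_le_normalizer_cent U).trans
      (Cfsg.Agent.Omega.normalizer_le_normalizer_o2' _))

variable [Finite G]

/-- The hypotheses of LEMMA P in the frame. -/
theorem data_loc (hG : IsCharacteristicTwoType G) (S : Sylow 2 G) {H : ι → Subgroup G}
    (h : ∀ i, IsLoc (S : Subgroup G) (H i)) {C : Subgroup G}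
    (hC : centralizer (zc (S : Subgroup G) : Set G) ≤ C) (hCH : ∀ i, C ≤ H i) :
    Data (zc (S : Subgroup G)) C (o2 C) H (fun i => zl (S : Subgroup G) (H i))
      (fun i => o2 (H i)) where
  cen := hC
  CH := hCH
  ZU := fun _ => zc_le_zl _ _
  HU := fun _ => le_normalizer_zl _ _
  HR := fun _ => le_normalizer_o2 _
  UR := fun i => ((h i).zl_le S hG).trans (zc_le _)
  RQ := fun i => o2_normal_le_o2
    (((h i).o2_le S).trans ((Cfsg.Agent.MinSimple.VModule.le_centralizer_zc _).trans hC)) (hCH i)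
  QR := fun i => o2_inf_centralizer_le ((centralizer_le (zc_le_zl _ _)).trans hC) (hCH i)
    (le_normalizer_zl _ _)

/-- **LEMMA P in the frame.** -/
theorem exists_crit_loc [Nonempty ι] (hG : IsCharacteristicTwoType G) (S : Sylow 2 G)
    {H : ι → Subgroup G} (h : ∀ i, IsLoc (S : Subgroup G) (H i)) {C : Subgroup G}
    (hC : centralizer (zc (S : Subgroup G) : Set G) ≤ C) (hCH : ∀ i, C ≤ H i)
    (core : o2 (⨆ i, H i) = ⊥) :
    ∃ n, Comm H (fun i => zl (S : Subgroup G) (H i)) (n + 1) ∧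
      (∀ m ≤ n, ∀ a c : ι × G, Near H m a c →
        vx (fun i => zl (S : Subgroup G) (H i)) a ≤ vx (fun i => o2 (H i)) c) ∧
      ∃ (i j k l : ι) (g : G), Crit (o2 C) H (fun i => zl (S : Subgroup G) (H i)) (fun i => o2 (H i)) i j k l g ∧
        Near H (n + 1) (i, g) (j, 1) := by
  refine (data_loc hG S h hC hCH).exists_crit (fun i => (zl_abel hG S (h i)).1) fun h1 => ?_
  obtain ⟨i, j, x, hx, -, -, h2⟩ := exists_mutual_loc hG S h (fun i => hC.trans (hCH i)) core
  exact h2 (commutator_eq_bot_iff_le_centralizer.mpr (h1 i j x hx))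

theorem elem_zl (hG : IsCharacteristicTwoType G) (S : Sylow 2 G) {H : Subgroup G}
    (h : IsLoc (S : Subgroup G) H) (g : G) :
    IsElementaryAbelian 2 (MulAut.conj g • zl (S : Subgroup G) H : Subgroup G) := by
  obtain ⟨h1, h2⟩ := zl_abel hG S h
  refine ⟨⟨⟨?_⟩⟩, ?_⟩
  · rintro ⟨a, ha⟩ ⟨b, hb⟩
    rw [mem_conj] at ha hb
    have h3 := mem_centralizer_iff.mp (h1 hb) _ ha
    have h4 := congrArg (fun t => g * t * g⁻¹) h3
    apply Subtype.ext
    change a * b = b * a
    simpa [mul_assoc] using h4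
  · intro a ha
    rw [mem_conj] at ha
    have h3 := h2 _ ha
    have h4 : a ^ 2 = g * (g⁻¹ * a * g) ^ 2 * g⁻¹ := by
      simp [pow_two, mul_assoc]
    rw [h4, h3]
    simp

/-- **LEMMA P, offender form**: the critical pair can be chosen such that `(U_i)^g ≤ O₂(C)` is an offender on
`U_j`. -/
theorem exists_off_loc [Nonempty ι] (hG : IsCharacteristicTwoType G) (S : Sylow 2 G)
    {H : ι → Subgroup G} (h : ∀ i, IsLoc (S : Subgroup G) (H i)) {C : Subgroup G}
    (hC : centralizer (zc (S : Subgroup G) : Set G) ≤ C) (hCH : ∀ i, C ≤ H i)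
    (core : o2 (⨆ i, H i) = ⊥) :
    ∃ n, Comm H (fun i => zl (S : Subgroup G) (H i)) (n + 1) ∧
      (∀ m ≤ n, ∀ a c : ι × G, Near H m a c →
        vx (fun i => zl (S : Subgroup G) (H i)) a ≤ vx (fun i => o2 (H i)) c) ∧
      ∃ (i j k l : ι) (g : G), Crit (o2 C) H (fun i => zl (S : Subgroup G) (H i)) (fun i => o2 (H i)) i j k l g ∧
        Near H (n + 1) (i, g) (j, 1) ∧
        Off (zl (S : Subgroup G) (H j)) (MulAut.conj g • zl (S : Subgroup G) (H i)) := by
  obtain ⟨n, h1, h2, i, j, k, l, g, h3, h4⟩ := exists_crit_loc hG S h hC hCH core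
  refine ⟨n, h1, h2, ?_⟩
  have e1 : IsElementaryAbelian 2 (zl (S : Subgroup G) (H j)) := by
    have h5 := elem_zl hG S (h j) 1
    rwa [map_one, one_smul] at h5
  rcases FFThm.off_or e1 (elem_zl hG S (h i) g) h3.ne with h5 | h5
  · exact ⟨i, j, k, l, g, h3, h4, h5⟩
  · refine ⟨j, i, l, k, g⁻¹, h3.symm, ?_, ?_⟩
    · have h6 := h4.symm.smul g⁻¹
      simpa using h6
    · have h6 := FFThm.off_cj h5 g⁻¹
      have h7 : Cfsg.Agent.ZN.ChoiceBase.cj g⁻¹ (MulAut.conj g • zl (S : Subgroup G) (H i)) =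
          zl (S : Subgroup G) (H i) := by
        change MulAut.conj g⁻¹ • (MulAut.conj g • zl (S : Subgroup G) (H i)) = _
        rw [conj_conj, inv_mul_cancel, map_one, one_smul]
      rw [h7] at h6
      exact h6

/-! ### Two overgroups -/

/-- **LEMMA P for two overgroups** `H false`, `H true` of `C ≥ C_G(Z)`: a critical pair `(U_i^g, U_j)`,
`U_i^g` an offender on `U_j`, `U_i^g ≤ O₂(H (!j)) ≤ O₂(C)`, `U_j ≤ O₂(H (!i))^g ≤ O₂(C)^g`; if
`[U_false, U_true] = 1` the critical distance is `≥ 2`. -/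
theorem exists_off_two (hG : IsCharacteristicTwoType G) (S : Sylow 2 G)
    {H : Bool → Subgroup G} (h : ∀ i, IsLoc (S : Subgroup G) (H i)) {C : Subgroup G}
    (hC : centralizer (zc (S : Subgroup G) : Set G) ≤ C) (hCH : ∀ i, C ≤ H i)
    (core : o2 (⨆ i, H i) = ⊥) :
    ∃ n, Comm H (fun i => zl (S : Subgroup G) (H i)) (n + 1) ∧
      (∀ m ≤ n, ∀ a c : Bool × G, Near H m a c →
        vx (fun i => zl (S : Subgroup G) (H i)) a ≤ vx (fun i => o2 (H i)) c) ∧
      (zl (S : Subgroup G) (H false) ≤ centralizer (zl (S : Subgroup G) (H true) : Set G) → 1 ≤ n) ∧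
      ∃ (i j : Bool) (g : G),
        Crit (o2 C) H (fun i => zl (S : Subgroup G) (H i)) (fun i => o2 (H i)) i j (!j) (!i) g ∧
        Near H (n + 1) (i, g) (j, 1) ∧
        Off (zl (S : Subgroup G) (H j)) (MulAut.conj g • zl (S : Subgroup G) (H i)) := by
  have hd := data_loc hG S h hC hCH
  obtain ⟨n, h1, h2, i, j, k, l, g, h3, h4, h5⟩ := exists_off_loc hG S h hC hCH core
  refine ⟨n, h1, h2, fun h6 => ?_, i, j, g, ?_, h4, h5⟩
  · rcases Nat.eq_zero_or_pos n with hn | hn
    · exfalso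
      subst hn
      refine hd.not_comm_of_near_one h4 ?_ ?_
      · rw [vx_mk, vx_mk, map_one, one_smul]
        exact h3.ne
      · rcases i with _ | _ <;> rcases j with _ | _
        · exact (zl_abel hG S (h false)).1
        · exact h6
        · exact comm_symm h6
        · exact (zl_abel hG S (h true)).1
    · exact hn
  · have hk : k = !j := by
      have := h3.kj
      revert this
      cases k <;> cases j <;> simp
    have hl : l = !i := by
      have := h3.li
      revert this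
      cases l <;> cases i <;> simp
    subst hk hl
    exact h3

/-- In the frame: what a critical pair gives, in one statement. `A = (U_i)^g` and `U_j` normalise each other,
`A ≤ O₂(C)`, `U_j ≤ O₂(C)^g`, `[A, U_j] ≤ A ∩ U_j`. -/
theorem Crit.facts {hG : IsCharacteristicTwoType G} {S : Sylow 2 G}
    {H : ι → Subgroup G} {h : ∀ i, IsLoc (S : Subgroup G) (H i)} {C : Subgroup G}
    {hC : centralizer (zc (S : Subgroup G) : Set G) ≤ C} {hCH : ∀ i, C ≤ H i} {i j k l : ι} {g : G}
    (hc : Crit (o2 C) H (fun i => zl (S : Subgroup G) (H i)) (fun i => o2 (H i)) i j k l g) :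
    MulAut.conj g • zl (S : Subgroup G) (H i) ≤ o2 C ∧
      zl (S : Subgroup G) (H j) ≤ MulAut.conj g • o2 C ∧
      MulAut.conj g • zl (S : Subgroup G) (H i) ≤ normalizer (zl (S : Subgroup G) (H j) : Set G) ∧
      zl (S : Subgroup G) (H j) ≤
        normalizer ((MulAut.conj g • zl (S : Subgroup G) (H i) : Subgroup G) : Set G) ∧
      ⁅MulAut.conj g • zl (S : Subgroup G) (H i), zl (S : Subgroup G) (H j)⁆ ≤
        (MulAut.conj g • zl (S : Subgroup G) (H i)) ⊓ zl (S : Subgroup G) (H j) := by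
  have hd := data_loc hG S h hC hCH
  have hQ : o2 C ≤ C := Cfsg.Agent.MinSimple.CosetFam.o2_le_self C
  exact ⟨hc.le_Q hd, hc.ge_Q hd, (hc.mutualPair hd hQ).1, (hc.mutualPair hd hQ).2,
    hc.commutator_le hd hQ⟩

end Cfsg.Agent.Omega.NO3L.LemP
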