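import Cfsg.Agent.Omega.NO3L.Tools

/-!
# NO-3L: minimal pairs (#13890 MINIMAL PAIRS, author helper863, referee helper120 #14215; (K6) of helper111 #14328)

`S` a Sylow 2-subgroup of `G`, `V_L = zl S L = ⟨Z^L⟩` for `L ∈ L(S)`.

* `MP S L L' g` : `V_L` and `(V_L')^g` normalise each other and do not commute; `MinP S L L' g` : moreover `L`, `L'` are
  minimal; `MP.exists_minP`, `exists_minP_card` (existence; the second form minimises `|V_L| |V_L'|` first),
  `MP.exists_le` (a conjugate under `N(V_L)` with `A = (V_L')^g ≤ S`);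
* `NN L A X` : generated by the `A^l ≤ X`, `l ∈ L`; `TT S L A = NN L A S` (`T*`, weakly closed);
  `HH' S L A = N_L(T*)` (`H*`);
* for a minimal pair, `A ≤ S ≤ X < L` : `comm_of_lt` (`[V_X, A^l] = 1` for `A^l ≤ X`), `NN_comm`, `NN_sup` (`L = ⟨A^L⟩S`),
  `HS_lt` (`H* < L`), `TT_comm` (`[T*, V_{H*}] = 1`), `decomp` (`X = N_X (X ∩ H*)`), `zl_le_zl_HS` (`V_X ≤ V_{H*}`),
  `par_le` (`H*` contains every `P ∈ P*(S)`, `P < L`), `sup_eq` (`L = ⟨H*, C_L(Z)⟩` if `L ∉ P*(S)`);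
* (K6) `zl_normal_of_lt` : `P₂ ∈ P(S)`, `P₂ ≤ L`, `P₂ ≰ H*`, `S ≤ X ≤ H*`, `⟨X, P₂⟩ < L` imply `P₂ ≤ N(V_X)`;
  `exists_k6` : there are `P₂ ∈ P(S)`, `P₂ ≤ C_L(Z)` and `H₀ ≤ H*` minimal with `P₂ ≰ N(V_{H₀})`; `L = ⟨H₀, P₂⟩`,
  `[T*, V_{H₀}] = 1`, and some `A^l ≤ S` is not contained in `O₂(P₂)`.
-/

set_option autoImplicit false
set_option linter.unusedSectionVars false

namespace Cfsg.Agent.Omega.NO3L.Min

open Subgroup Cfsg Cfsg.Agent.ZN Cfsg.Agent.Omega.MinPar Cfsg.Agent.MinSimple.VModule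
open Cfsg.Agent.MinSimple.Basic
open Cfsg.Agent.Omega Cfsg.Agent.Omega.NoFF.Basic Cfsg.Agent.Omega.NoFF.Lines
open Cfsg.Agent.Omega.NoFF.LinesPlug Cfsg.Agent.Omega.NO3L.Cut Cfsg.Agent.Omega.NO3L.Tools
open scoped Pointwise

variable {G : Type*} [Group G]

/-! ### Weak closure -/

/-- generated by the conjugates `A^l ≤ X`, `l ∈ L` -/
def NN (L A X : Subgroup G) : Subgroup G :=
  ⨆ l : {l : G // l ∈ L ∧ MulAut.conj l • A ≤ X}, MulAut.conj (l : G) • A

section wc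

variable {L A X Y S T D : Subgroup G}

theorem le_NN {l : G} (hl : l ∈ L) (h : MulAut.conj l • A ≤ X) : MulAut.conj l • A ≤ NN L A X :=
  le_iSup (fun l : {l : G // l ∈ L ∧ MulAut.conj l • A ≤ X} => MulAut.conj (l : G) • A) ⟨l, hl, h⟩

theorem NN_le (h : ∀ l ∈ L, MulAut.conj l • A ≤ X → MulAut.conj l • A ≤ Y) : NN L A X ≤ Y :=
  iSup_le fun l => h l l.2.1 l.2.2

theorem NN_le_self : NN L A X ≤ X := NN_le fun _ _ h => h

theorem NN_mono (h : X ≤ Y) : NN L A X ≤ NN L A Y := NN_le fun _ hl h1 => le_NN hl (h1.trans h)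

theorem self_le_NN (h : A ≤ X) : A ≤ NN L A X := by
  have := le_NN (L := L) (A := A) (X := X) (l := 1) (one_mem _) (by rwa [map_one, one_smul])
  rwa [map_one, one_smul] at this

theorem conj_NN_le {l : G} (hl : l ∈ L) (h : MulAut.conj l • NN L A X ≤ Y) :
    MulAut.conj l • NN L A X ≤ NN L A Y := by
  rw [Subgroup.pointwise_smul_subset_iff]
  refine NN_le fun k hk h1 => ?_
  rw [← Subgroup.pointwise_smul_subset_iff, conj_conj]
  refine le_NN (mul_mem hl hk) ?_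
  rw [← conj_conj]
  exact (conj_le_iff.2 (le_NN hk h1)).trans h

/-- `N_L(X) ≤ N(NN L A X)` -/
theorem le_normalizer_NN : L ⊓ normalizer (X : Set G) ≤ normalizer (NN L A X : Set G) := by
  apply le_normalizer_of_conj_le
  intro x hx
  refine conj_NN_le hx.1 ((conj_le_iff.2 NN_le_self).trans ?_)
  rw [conj_eq hx.2]

theorem le_normalizer_NN_self : L ≤ normalizer (NN L A L : Set G) :=
  (le_inf le_rfl le_normalizer).trans le_normalizer_NN

/-- `T*` is weakly closed in `S` with respect to `L`. -/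
theorem weak [Finite G] {l : G} (hl : l ∈ L) (h : MulAut.conj l • NN L A S ≤ S) :
    l ∈ normalizer (NN L A S : Set G) := by
  have h1 := conj_NN_le hl h
  have h2 : MulAut.conj l • NN L A S = NN L A S := by
    apply eq_of_le_of_card_ge h1
    rw [Nat.card_congr (Subgroup.equivSMul (MulAut.conj l) (NN L A S)).toEquiv]
  rw [mem_normalizer_iff]
  intro x
  conv_rhs => rw [← h2, mem_conj]
  have e : l⁻¹ * (l * x * l⁻¹) * l = x := by group
  rw [e]

/-- `T* ≤ R ≤ S` : `N_L(R) ≤ N(T*)` -/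
theorem normalizer_le [Finite G] {R : Subgroup G} (h1 : NN L A S ≤ R) (h2 : R ≤ S) :
    L ⊓ normalizer (R : Set G) ≤ normalizer (NN L A S : Set G) := by
  intro l hl
  refine weak hl.1 ((conj_le_iff.2 h1).trans ?_)
  rw [conj_eq hl.2]
  exact h2

/-- Frattini: `T* ≤ D ⊴ X` : `X = D (X ∩ N(T*))` -/
theorem exists_frattini [Finite G] (S : Sylow 2 G) (hSX : (S : Subgroup G) ≤ X) (hXL : X ≤ L)
    (hD : X ≤ normalizer (D : Set G)) (hT : NN L A (S : Subgroup G) ≤ D) {x : G} (hx : x ∈ X) :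
    ∃ d ∈ D, ∃ n ∈ X, n ∈ normalizer (NN L A (S : Subgroup G) : Set G) ∧ x = d * n := by
  have h1 := frattini hSX S.isPGroup' (MinSimple.Basic.not_dvd_relIndex S hSX) hD hx
  have h2 : x ∈ ((D ⊔ (X ⊓ normalizer (((S : Subgroup G) ⊓ D : Subgroup G) : Set G)) : Subgroup G) : Set G) := h1
  rw [coe_mul_of_right_le_normalizer_left _ _ (inf_le_left.trans hD)] at h2
  obtain ⟨a, ha, b, hb, hab⟩ := h2
  exact ⟨a, ha, b, hb.1, normalizer_le (le_inf NN_le_self hT) inf_le_left ⟨hXL hb.1, hb.2⟩, hab.symm⟩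

end wc

/-! ### Minimal pairs -/

/-- `V_L = zl S L` and `(V_{L'})^g` normalise each other and do not commute. -/
structure MP (S L L' : Subgroup G) (g : G) : Prop where
  loc : IsLoc S L
  loc' : IsLoc S L'
  norm : MulAut.conj g • zl S L' ≤ normalizer (zl S L : Set G)
  norm' : zl S L ≤ normalizer ((MulAut.conj g • zl S L' : Subgroup G) : Set G)
  ne : ¬ MulAut.conj g • zl S L' ≤ centralizer (zl S L : Set G)

/-- A minimal pair. -/
structure MinP (S L L' : Subgroup G) (g : G) : Prop extends MP S L L' g where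
  min : ∀ X ≤ L, ∀ h, MP S X L' h → X = L
  min' : ∀ X ≤ L', ∀ h, MP S L X h → X = L'

section pairs

variable {S L L' : Subgroup G} {g : G}

theorem MP.symm (M : MP S L L' g) : MP S L' L g⁻¹ := by
  refine ⟨M.loc', M.loc, ?_, ?_, ?_⟩
  · have h1 := (conj_le_iff (g := g⁻¹)).2 M.norm'
    rwa [NoFF.Main.normalizer_conj, conj_conj, inv_mul_cancel, map_one, one_smul] at h1
  · have h1 := (conj_le_iff (g := g⁻¹)).2 M.norm
    rw [conj_conj, inv_mul_cancel, map_one, one_smul] at h1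
    rwa [NoFF.Main.normalizer_conj]
  · intro h
    apply M.ne
    have h1 := conj_le_centralizer (g := g) h
    rw [conj_conj, mul_inv_cancel, map_one, one_smul] at h1
    exact comm_symm h1

theorem MP.conj (M : MP S L L' g) {n : G} (hn : n ∈ normalizer (zl S L : Set G)) : MP S L L' (n * g) := by
  have e : MulAut.conj n • zl S L = zl S L := conj_eq hn
  refine ⟨M.loc, M.loc', ?_, ?_, ?_⟩
  · have h1 := (conj_le_iff (g := n)).2 M.norm
    rwa [← NoFF.Main.normalizer_conj, e, conj_conj] at h1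
  · have h1 := (conj_le_iff (g := n)).2 M.norm'
    rwa [← NoFF.Main.normalizer_conj, e, conj_conj] at h1
  · intro h
    apply M.ne
    have h1 := conj_le_centralizer (g := n⁻¹) h
    rw [conj_conj, inv_mul_cancel_left] at h1
    have e' : MulAut.conj n⁻¹ • zl S L = zl S L := conj_eq (inv_mem hn)
    rwa [e'] at h1

theorem MinP.symm (M : MinP S L L' g) : MinP S L' L g⁻¹ :=
  ⟨M.toMP.symm, fun X hX h hM => M.min' X hX h⁻¹ hM.symm, fun X hX h hM => M.min X hX h⁻¹ hM.symm⟩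

theorem MinP.conj (M : MinP S L L' g) {n : G} (hn : n ∈ normalizer (zl S L : Set G)) : MinP S L L' (n * g) :=
  ⟨M.toMP.conj hn, M.min, M.min'⟩

/-- Existence of minimal pairs. -/
theorem MP.exists_minP [Finite G] (M : MP S L L' g) : ∃ L₁ ≤ L, ∃ L₁' ≤ L', ∃ g₁, MinP S L₁ L₁' g₁ := by
  induction hn : Nat.card L + Nat.card L' using Nat.strong_induction_on generalizing L L' g with
  | _ n IH =>
    have hlt : ∀ {X Y : Subgroup G}, X ≤ Y → X ≠ Y → Nat.card X < Nat.card Y := by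
      intro X Y hXY hne
      refine lt_of_le_of_ne (Nat.le_of_dvd Nat.card_pos (card_dvd_of_le hXY)) fun h => hne ?_
      exact eq_of_le_of_card_ge hXY h.ge
    by_cases h1 : ∀ X ≤ L, ∀ h, MP S X L' h → X = L
    · by_cases h2 : ∀ X ≤ L', ∀ h, MP S L X h → X = L'
      · exact ⟨L, le_rfl, L', le_rfl, g, M, h1, h2⟩
      · push Not at h2
        obtain ⟨X, hX, h, hM, hne⟩ := h2
        obtain ⟨L₁, hL₁, L₁', hL₁', g₁, h3⟩ := IH _ (by have := hlt hX hne; omega) hM rfl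
        exact ⟨L₁, hL₁, L₁', hL₁'.trans hX, g₁, h3⟩
    · push Not at h1
      obtain ⟨X, hX, h, hM, hne⟩ := h1
      obtain ⟨L₁, hL₁, L₁', hL₁', g₁, h3⟩ := IH _ (by have := hlt hX hne; omega) hM rfl
      exact ⟨L₁, hL₁.trans hX, L₁', hL₁', g₁, h3⟩

theorem zl_mono {X Y : Subgroup G} (h : X ≤ Y) : zl S X ≤ zl S Y :=
  MinSimple.VModule.zl_le (zc_le_zl _ _) (h.trans (le_normalizer_zl _ _))

/-- A minimal pair which minimises `|V_L| |V_L'|` over all pairs. -/
theorem exists_minP_card [Finite G] (M : MP S L L' g) : ∃ L₁ L₁' g₁, MinP S L₁ L₁' g₁ ∧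
    ∀ X X' h, MP S X X' h →
      Nat.card (zl S L₁) * Nat.card (zl S L₁') ≤ Nat.card (zl S X) * Nat.card (zl S X') := by
  classical
  have h1 : ∃ n, ∃ X X' h, MP S X X' h ∧ Nat.card (zl S X) * Nat.card (zl S X') = n := ⟨_, L, L', g, M, rfl⟩
  obtain ⟨X, X', h, hM, hn⟩ := Nat.find_spec h1
  have hmin : ∀ Y Y' k, MP S Y Y' k → Nat.find h1 ≤ Nat.card (zl S Y) * Nat.card (zl S Y') :=
    fun Y Y' k hk => Nat.find_min' h1 ⟨Y, Y', k, hk, rfl⟩
  obtain ⟨L₁, hL₁, L₁', hL₁', g₁, h3⟩ := hM.exists_minP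
  refine ⟨L₁, L₁', g₁, h3, fun Y Y' k hk => le_trans ?_ (hmin Y Y' k hk)⟩
  rw [← hn]
  exact Nat.mul_le_mul (card_le_of_le (zl_mono hL₁)) (card_le_of_le (zl_mono hL₁'))

/-- We may take `A = (V_L')^g` in `S`. -/
theorem MP.exists_le [Finite G] (hG : IsCharacteristicTwoType G) {S : Sylow 2 G} (M : MP (S : Subgroup G) L L' g) :
    ∃ n ∈ normalizer (zl (S : Subgroup G) L : Set G), MulAut.conj (n * g) • zl (S : Subgroup G) L' ≤ (S : Subgroup G) := by
  have h1 : IsPGroup 2 (zl (S : Subgroup G) L' : Subgroup G) :=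
    (o2_isPGroup L').to_le ((M.loc'.zl_le S hG).trans (zc_le _))
  obtain ⟨m, hm, h2⟩ := NoFF.Main.exists_le_conj S (M.loc.le.trans (le_normalizer_zl _ _))
    (h1.map (MulAut.conj g).toMonoidHom) M.norm
  refine ⟨m⁻¹, inv_mem hm, ?_⟩
  have h3 := (conj_le_iff (g := m⁻¹)).2 h2
  change MulAut.conj m⁻¹ • (MulAut.conj g • zl (S : Subgroup G) L') ≤ _ at h3
  rwa [conj_conj, conj_conj, inv_mul_cancel, map_one, one_smul] at h3

theorem MinP.exists_le [Finite G] (hG : IsCharacteristicTwoType G) {S : Sylow 2 G}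
    (M : MinP (S : Subgroup G) L L' g) :
    ∃ h, MinP (S : Subgroup G) L L' h ∧ MulAut.conj h • zl (S : Subgroup G) L' ≤ (S : Subgroup G) := by
  obtain ⟨n, hn, h⟩ := M.toMP.exists_le hG
  exact ⟨n * g, M.conj hn, h⟩

end pairs

/-! ### The structure of a minimal pair -/

/-- `T* = ⟨A^l : l ∈ L, A^l ≤ S⟩` -/
abbrev TT (S L A : Subgroup G) : Subgroup G := NN L A S

/-- `H* = N_L(T*)` -/
def HS (S L A : Subgroup G) : Subgroup G := L ⊓ normalizer (TT S L A : Set G)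

section main

variable [Finite G] {S : Sylow 2 G} {L L' X A P : Subgroup G} {g : G}

/-- The pair `(V_L, A)`: `A = (V_L')^g ≤ S`. -/
structure Hyp (S : Sylow 2 G) (L L' A : Subgroup G) (g : G) : Prop where
  minP : MinP (S : Subgroup G) L L' g
  eq : A = MulAut.conj g • zl (S : Subgroup G) L'
  le : A ≤ (S : Subgroup G)

theorem MP.exists_hyp (hG : IsCharacteristicTwoType G) (M : MP (S : Subgroup G) L L' g) :
    ∃ L₁ ≤ L, ∃ L₁' ≤ L', ∃ g₁ A, Hyp S L₁ L₁' A g₁ := by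
  obtain ⟨L₁, h1, L₁', h2, g₁, h3⟩ := M.exists_minP
  obtain ⟨h, h4, h5⟩ := h3.exists_le hG
  exact ⟨L₁, h1, L₁', h2, h, _, h4, rfl, h5⟩

namespace Hyp

variable (M : Hyp S L L' A g)
include M

theorem S_le : (S : Subgroup G) ≤ L := M.minP.loc.le

theorem not_comm : ¬ A ≤ centralizer (zl (S : Subgroup G) L : Set G) := M.eq ▸ M.minP.ne

/-- `[V_X, A^l] = 1` for `S ≤ X < L`, `A^l ≤ X`. -/
theorem comm_of_lt (hSX : (S : Subgroup G) ≤ X) (hXL : X < L) {l : G} (hl : l ∈ L)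
    (h : MulAut.conj l • A ≤ X) : MulAut.conj l • A ≤ centralizer (zl (S : Subgroup G) X : Set G) := by
  by_contra hne
  refine hXL.ne (M.minP.min X hXL.le (l * g) ⟨M.minP.loc.of_le S hSX hXL.le, M.minP.loc', ?_, ?_, ?_⟩)
  · rw [← conj_conj, ← M.eq]
    exact h.trans (le_normalizer_zl _ _)
  · rw [← conj_conj, ← M.eq, NoFF.Main.normalizer_conj]
    refine (zl_mono hXL.le).trans ?_
    rw [← conj_eq_self (le_normalizer_zl (S : Subgroup G) L) hl]
    refine conj_le_iff.2 ?_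
    rw [M.eq]
    exact M.minP.norm'
  · rw [← conj_conj, ← M.eq]
    exact hne

theorem NN_comm (hSX : (S : Subgroup G) ≤ X) (hXL : X < L) :
    NN L A X ≤ centralizer (zl (S : Subgroup G) X : Set G) :=
  NN_le fun _ hl h => M.comm_of_lt hSX hXL hl h

/-- `L = ⟨A^L⟩ S` -/
theorem NN_sup : NN L A L ⊔ (S : Subgroup G) = L := by
  by_contra hne
  have hlt : NN L A L ⊔ (S : Subgroup G) < L := lt_of_le_of_ne (sup_le NN_le_self M.S_le) hne
  have h1 : NN L A L ≤ centralizer (zl (S : Subgroup G) (NN L A L ⊔ (S : Subgroup G)) : Set G) :=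
    le_trans (NN_le fun l hl h => le_NN hl ((le_NN hl h).trans le_sup_left)) (M.NN_comm le_sup_right hlt)
  have h2 : NN L A L ≤ centralizer (zc (S : Subgroup G) : Set G) := h1.trans (centralizer_le (zc_le_zl _ _))
  have h3 : zl (S : Subgroup G) L ≤ centralizer (NN L A L : Set G) := by
    refine MinSimple.VModule.zl_le (comm_symm h2) ?_
    exact le_normalizer_NN_self.trans (normalizer_le_normalizer_centralizer' _)
  exact M.not_comm ((self_le_NN (M.le.trans M.S_le)).trans (comm_symm h3))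

theorem A_le_TT : A ≤ TT (S : Subgroup G) L A := self_le_NN M.le

theorem S_le_HS : (S : Subgroup G) ≤ HS (S : Subgroup G) L A :=
  le_inf M.S_le ((le_inf M.S_le le_normalizer).trans le_normalizer_NN)

omit M in
theorem HS_le : HS (S : Subgroup G) L A ≤ L := inf_le_left

/-- `H* < L` -/
theorem HS_lt : HS (S : Subgroup G) L A < L := by
  refine lt_of_le_of_ne HS_le fun h => ?_
  have hn : L ≤ normalizer (TT (S : Subgroup G) L A : Set G) := by
    conv_lhs => rw [← h]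
    exact inf_le_right
  have h1 : NN L A L ≤ (S : Subgroup G) := by
    refine NN_le fun l hl _ => ?_
    have h2 := (conj_le_iff (g := l)).2 M.A_le_TT
    rw [conj_eq (hn hl)] at h2
    exact h2.trans NN_le_self
  have h2 : L = (S : Subgroup G) := by
    have := M.NN_sup
    rwa [sup_eq_right.2 h1, eq_comm] at this
  apply M.not_comm
  have h3 : zl (S : Subgroup G) L = zc (S : Subgroup G) := by
    rw [h2]
    exact zl_eq_zc (normalizer_le_normalizer_zc _ |>.trans' le_normalizer)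
  rw [h3]
  exact M.le.trans (le_centralizer_zc _)

/-- `[T*, V_{H*}] = 1` -/
theorem TT_comm : TT (S : Subgroup G) L A ≤ centralizer (zl (S : Subgroup G) (HS (S : Subgroup G) L A) : Set G) :=
  (NN_mono M.S_le_HS).trans (M.NN_comm M.S_le_HS M.HS_lt)

/-- `X = N_X (X ∩ H*)` -/
theorem decomp (hSX : (S : Subgroup G) ≤ X) (hXL : X < L) {x : G} (hx : x ∈ X) :
    ∃ n ∈ NN L A X, ∃ h ∈ X, h ∈ HS (S : Subgroup G) L A ∧ x = n * h := by
  obtain ⟨d, hd, n, hn, hn', e⟩ := exists_frattini S hSX hXL.le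
    ((le_inf hXL.le le_normalizer).trans le_normalizer_NN) (NN_mono hSX) hx
  exact ⟨d, hd, n, hn, ⟨hXL.le hn, hn'⟩, e⟩

/-- `V_X ≤ V_{H*}` for `S ≤ X < L` -/
theorem zl_le_zl_HS (hSX : (S : Subgroup G) ≤ X) (hXL : X < L) :
    zl (S : Subgroup G) X ≤ zl (S : Subgroup G) (HS (S : Subgroup G) L A) := by
  refine V_le (Z := zc (S : Subgroup G)) (P := X) fun x hx => ?_
  obtain ⟨n, hn, h, -, hh, e⟩ := M.decomp hSX hXL (inv_mem hx)
  have e1 : x = h⁻¹ * n⁻¹ := by rw [← inv_inv x, e, mul_inv_rev]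
  have h1 : MulAut.conj n⁻¹ • zc (S : Subgroup G) = zc (S : Subgroup G) := by
    apply conj_eq
    apply centralizer_le_normalizer
    exact centralizer_le (zc_le_zl _ _) (inv_mem (M.NN_comm hSX hXL hn))
  rw [e1, ← conj_conj, h1]
  exact Z_le_V (Z := zc (S : Subgroup G)) (inv_mem hh)

/-- `H*` contains every `P ∈ P*(S)`, `P < L`. -/
theorem par_le (hP : IsParS (S : Subgroup G) P) (hPL : P < L) : P ≤ HS (S : Subgroup G) L A := by
  have hSP := (IsParS.isLoc hP).le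
  obtain ⟨Y, hYP, hY⟩ := hP.exists_max
  have hN : P ≤ normalizer (NN L A P : Set G) := (le_inf hPL.le le_normalizer).trans le_normalizer_NN
  by_contra hne
  have h1 : P ⊓ HS (S : Subgroup G) L A ≤ Y :=
    hY _ (le_inf hSP M.S_le_HS) (lt_of_le_of_ne inf_le_left fun h => hne (inf_eq_left.1 h))
  have h2 : NN L A P ⊔ (S : Subgroup G) ≤ Y := by
    refine hY _ le_sup_right (lt_of_le_of_ne (sup_le NN_le_self hSP) fun h => ?_)
    apply hP.not_zc
    rw [← h]
    refine sup_le ?_ ((le_centralizer_zc _).trans (centralizer_le_normalizer _))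
    exact ((M.NN_comm hSP hPL).trans (centralizer_le (zc_le_zl _ _))).trans (centralizer_le_normalizer _)
  refine hYP.not_ge fun x hx => ?_
  obtain ⟨n, hn, h, hh, hh', rfl⟩ := M.decomp hSP hPL hx
  exact mul_mem (h2 (mem_sup_left hn)) (h1 ⟨hh, hh'⟩)

/-- `N_L(S) ≤ H*` -/
theorem normalizer_le_HS : L ⊓ normalizer ((S : Subgroup G) : Set G) ≤ HS (S : Subgroup G) L A :=
  le_inf inf_le_left le_normalizer_NN

/-- `L = ⟨H*, C_L(Z)⟩` unless `L ∈ P*(S)` -/
theorem sup_eq (hL : ¬ IsParS (S : Subgroup G) L) :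
    HS (S : Subgroup G) L A ⊔ (L ⊓ CC (S : Subgroup G)) = L := by
  apply le_antisymm (sup_le HS_le inf_le_left)
  refine M.minP.loc.le_of_forall S (M.normalizer_le_HS.trans le_sup_left) fun P hP hPL => ?_
  by_cases h : P ≤ normalizer (zc (S : Subgroup G) : Set G)
  · exact (le_inf hPL (le_CC S hP h)).trans le_sup_right
  · refine (M.par_le ⟨hP, h⟩ (lt_of_le_of_ne hPL ?_)).trans le_sup_left
    rintro rfl
    exact hL ⟨hP, h⟩

/-! ### (K6) -/

/-- `P₂ ∈ P(S)`, `P₂ ≤ L`, `P₂ ≰ H*`, `S ≤ X ≤ H*`, `⟨X, P₂⟩ < L` : `P₂` normalises `V_X`. -/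
theorem zl_normal_of_lt {P₂ : Subgroup G} (hP : IsPar (S : Subgroup G) P₂) (hPH : ¬ P₂ ≤ HS (S : Subgroup G) L A)
    (hSX : (S : Subgroup G) ≤ X) (hlt : X ⊔ P₂ < L) : P₂ ≤ normalizer (zl (S : Subgroup G) X : Set G) := by
  have hSP := hP.isLoc.le
  have hPL : P₂ ≤ L := le_sup_right.trans hlt.le
  have hSY : (S : Subgroup G) ≤ X ⊔ P₂ := hSP.trans le_sup_right
  set Y := X ⊔ P₂ with hYdef
  set D := P₂ ⊓ centralizer (zl (S : Subgroup G) Y : Set G) with hD
  have hDn : P₂ ≤ normalizer (D : Set G) := by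
    have h1 : P₂ ≤ normalizer ((centralizer (zl (S : Subgroup G) Y : Set G) : Subgroup G) : Set G) :=
      (le_sup_right.trans (le_normalizer_zl _ _)).trans (normalizer_le_normalizer_centralizer' _)
    intro s hs
    rw [mem_normalizer_iff]
    intro x
    have h3 := mem_normalizer_iff.1 (le_normalizer hs : s ∈ normalizer (P₂ : Set G)) x
    have h4 := mem_normalizer_iff.1 (h1 hs) x
    exact ⟨fun hx => ⟨h3.1 hx.1, h4.1 hx.2⟩, fun hx => ⟨h3.2 hx.1, h4.2 hx.2⟩⟩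
  have hTD : TT (S : Subgroup G) L A ≤ D :=
    le_inf (NN_le_self.trans hSP) ((NN_mono hSY).trans (M.NN_comm hSY hlt))
  obtain ⟨U, hUP, hU⟩ := hP.exists_max
  have h1 : P₂ ⊓ HS (S : Subgroup G) L A ≤ U :=
    hU _ (le_inf hSP M.S_le_HS) (lt_of_le_of_ne inf_le_left fun h => hPH (inf_eq_left.1 h))
  have h2 : D ⊔ (S : Subgroup G) = P₂ := by
    by_contra hne
    have h3 := hU _ le_sup_right (lt_of_le_of_ne (sup_le inf_le_left hSP) hne)
    refine hUP.not_ge fun x hx => ?_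
    obtain ⟨d, hd, n, hn, hn', rfl⟩ := exists_frattini S hSP hPL hDn hTD hx
    exact mul_mem (h3 (mem_sup_left hd)) (h1 ⟨hn, hPL hn, hn'⟩)
  rw [← h2]
  refine sup_le ?_ ?_
  · refine le_trans inf_le_right ((centralizer_le ?_).trans (centralizer_le_normalizer _))
    exact zl_mono le_sup_left
  · exact hSX.trans (le_normalizer_zl _ _)

/-- `P₂ ∈ P(S)`, `P₂ ≤ L`, `P₂ ≰ H*`, `P₂` does not normalise `V_X`, `S ≤ X ≤ L` : `L = ⟨X, P₂⟩`. -/
theorem sup_eq_of_not_normal {P₂ : Subgroup G} (hP : IsPar (S : Subgroup G) P₂) (hPL : P₂ ≤ L)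
    (hPH : ¬ P₂ ≤ HS (S : Subgroup G) L A) (hSX : (S : Subgroup G) ≤ X) (hXL : X ≤ L)
    (hn : ¬ P₂ ≤ normalizer (zl (S : Subgroup G) X : Set G)) : X ⊔ P₂ = L := by
  by_contra hne
  exact hn (M.zl_normal_of_lt hP hPH hSX (lt_of_le_of_ne (sup_le hXL hPL) hne))

/-- Some `P₂ ∈ P(S)`, `P₂ ≤ C_L(Z)`, does not normalise `V_{H*}`. -/
theorem exists_par (hL : ¬ IsParS (S : Subgroup G) L) : ∃ P₂ : Subgroup G, IsPar (S : Subgroup G) P₂ ∧
    P₂ ≤ L ∧ P₂ ≤ CC (S : Subgroup G) ∧ ¬ P₂ ≤ normalizer (zl (S : Subgroup G) (HS (S : Subgroup G) L A) : Set G) := by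
  by_contra hcon
  push Not at hcon
  have h1 : L ≤ normalizer (zl (S : Subgroup G) (HS (S : Subgroup G) L A) : Set G) := by
    refine (M.sup_eq hL).symm.le.trans (sup_le (le_normalizer_zl _ _) ?_)
    have h2 : IsLoc (S : Subgroup G) (L ⊓ CC (S : Subgroup G)) :=
      M.minP.loc.of_le S (le_inf M.S_le (le_centralizer_zc _)) inf_le_left
    refine h2.le_of_forall S ?_ fun P hP hPL => hcon P hP (hPL.trans inf_le_left) (hPL.trans inf_le_right)
    exact ((inf_le_inf_right _ inf_le_left).trans M.normalizer_le_HS).trans (le_normalizer_zl _ _)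
  apply M.not_comm
  refine (M.A_le_TT.trans M.TT_comm).trans (centralizer_le ?_)
  exact MinSimple.VModule.zl_le (zc_le_zl _ _) h1

/-- `T* ≤ O₂(P₂)` implies `P₂ ≤ H*` (`P₂ ≤ L`). -/
theorem le_HS_of_le_o2 {P₂ : Subgroup G} (hSP : (S : Subgroup G) ≤ P₂) (hPL : P₂ ≤ L)
    (h : TT (S : Subgroup G) L A ≤ o2 P₂) : P₂ ≤ HS (S : Subgroup G) L A :=
  le_inf hPL ((le_inf hPL (le_normalizer_o2 _)).trans
    (normalizer_le h (o2_le_of_sylow S.isPGroup' (MinSimple.Basic.not_dvd_relIndex S hSP))))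

/-- The conclusion of (K6). -/
structure K6 (S : Sylow 2 G) (L A H₀ P₂ : Subgroup G) : Prop where
  par : IsPar (S : Subgroup G) P₂
  par_le : P₂ ≤ L
  par_cen : P₂ ≤ CC (S : Subgroup G)
  not_le_HS : ¬ P₂ ≤ HS (S : Subgroup G) L A
  le : (S : Subgroup G) ≤ H₀
  le_HS : H₀ ≤ HS (S : Subgroup G) L A
  not_normal : ¬ P₂ ≤ normalizer (zl (S : Subgroup G) H₀ : Set G)
  min : ∀ X : Subgroup G, (S : Subgroup G) ≤ X → X < H₀ → P₂ ≤ normalizer (zl (S : Subgroup G) X : Set G)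
  sup : H₀ ⊔ P₂ = L
  comm : TT (S : Subgroup G) L A ≤ centralizer (zl (S : Subgroup G) H₀ : Set G)
  off : ∃ l ∈ L, MulAut.conj l • A ≤ (S : Subgroup G) ∧ ¬ MulAut.conj l • A ≤ o2 P₂ ∧
    MulAut.conj l • A ≤ centralizer (zl (S : Subgroup G) H₀ : Set G)

/-- **(K6)** -/
theorem exists_k6 (hL : ¬ IsParS (S : Subgroup G) L) : ∃ H₀ P₂ : Subgroup G, K6 S L A H₀ P₂ := by
  classical
  obtain ⟨P₂, hP, hPL, hPC, hPn⟩ := M.exists_par hL
  have hPH : ¬ P₂ ≤ HS (S : Subgroup G) L A := fun h => hPn (h.trans (le_normalizer_zl _ _))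
  have h1 : ∃ n, ∃ X : Subgroup G, (S : Subgroup G) ≤ X ∧ X ≤ HS (S : Subgroup G) L A ∧
      ¬ P₂ ≤ normalizer (zl (S : Subgroup G) X : Set G) ∧ Nat.card X = n :=
    ⟨_, _, M.S_le_HS, le_rfl, hPn, rfl⟩
  obtain ⟨H₀, hS0, hH0, hn0, hc0⟩ := Nat.find_spec h1
  have hcomm : TT (S : Subgroup G) L A ≤ centralizer (zl (S : Subgroup G) H₀ : Set G) :=
    M.TT_comm.trans (centralizer_le (zl_mono hH0))
  refine ⟨H₀, P₂, hP, hPL, hPC, hPH, hS0, hH0, hn0, fun X hSX hX => ?_, ?_, hcomm, ?_⟩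
  · by_contra hne
    have h2 := Nat.find_min' h1 ⟨X, hSX, hX.le.trans hH0, hne, rfl⟩
    rw [← hc0] at h2
    exact hX.ne (eq_of_le_of_card_ge hX.le h2)
  · by_contra hne
    refine hn0 (M.zl_normal_of_lt hP hPH hS0 (lt_of_le_of_ne (sup_le (hH0.trans HS_le) hPL) hne))
  · by_contra hcon
    push Not at hcon
    refine hPH (M.le_HS_of_le_o2 hP.isLoc.le hPL (NN_le fun l hl h => ?_))
    by_contra h3
    exact hcon l hl h h3 ((le_NN hl h).trans hcomm)

end Hyp

end main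

/-! ### Pairs in NO-3L -/

section no3l

variable [Finite G] {S : Sylow 2 G} {L L' : Subgroup G} {g : G}

/-- NOFF: `L`, `L'` are not both in `P*(S)`. -/
theorem MP.not_parS (hG : IsCharacteristicTwoType G) (hF : ¬ FF (S : Subgroup G))
    (M : MP (S : Subgroup G) L L' g) : ¬ (IsParS (S : Subgroup G) L ∧ IsParS (S : Subgroup G) L') := by
  rintro ⟨h1, h2⟩
  apply M.ne
  have h3 := noff_lines (sys hG S hF) h2 h1 (g := g) (h := 1) (by rw [map_one, one_smul]; exact M.norm)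
    (by rw [map_one, one_smul]; exact M.norm')
  rwa [map_one, one_smul] at h3

/-- (A) gives a pair `(V_P, U_H)`. -/
theorem CaseA.mp (hG : IsCharacteristicTwoType G) (hlow : Low (S : Subgroup G)) (h : CaseA (S : Subgroup G)) :
    ∃ P H, IsParS (S : Subgroup G) P ∧ H ∈ HH (S : Subgroup G) ∧ MP (S : Subgroup G) H P 1 := by
  obtain ⟨P, H, hP, hH, hne⟩ := h
  refine ⟨P, H, hP, hH, hH.1, IsParS.isLoc hP, ?_, ?_, ?_⟩
  · rw [map_one, one_smul]
    exact (hlow P hP).trans ((o2CC_le hH).trans (le_normalizer_zl _ _))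
  · rw [map_one, one_smul]
    exact ((zl_le_o2 hG hH).trans (hH.1.o2_le S)).trans ((IsParS.isLoc hP).le.trans (le_normalizer_zl _ _))
  · rwa [map_one, one_smul]

/-- (B1) gives a pair `(U_H, U_K)`. -/
theorem CaseB1.mp (hG : IsCharacteristicTwoType G) (h : CaseB1 (S : Subgroup G)) :
    ∃ H K, H ∈ HH (S : Subgroup G) ∧ K ∈ HH (S : Subgroup G) ∧ MP (S : Subgroup G) H K 1 := by
  obtain ⟨H, hH, K, hK, hne⟩ := h
  refine ⟨H, K, hH, hK, hH.1, hK.1, ?_, ?_, ?_⟩
  · rw [map_one, one_smul]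
    exact zl_le_normalizer hG hK hH
  · rw [map_one, one_smul]
    exact zl_le_normalizer hG hH hK
  · rw [map_one, one_smul]
    exact fun h => hne (comm_symm h)

/-- (B2) gives a pair `(U_H, V_l)`. -/
theorem CaseB2.mp (hG : IsCharacteristicTwoType G) (hlow : Low (S : Subgroup G)) (hA : ¬ CaseA (S : Subgroup G))
    (h : CaseB2 (S : Subgroup G)) :
    ∃ H P k, H ∈ HH (S : Subgroup G) ∧ IsParS (S : Subgroup G) P ∧ MP (S : Subgroup G) H P k := by
  obtain ⟨H, hH, K, hK, P, hP, k, hk, -, hne, h1, h2, -⟩ := CaseB2.mutual hG hlow hA h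
  exact ⟨H, P, k, hH, hP, hH.1, IsParS.isLoc hP, h2, h1, fun h => hne (comm_symm h)⟩

end no3l

end Cfsg.Agent.Omega.NO3L.Min
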