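import Cfsg.Agent.Omega.NO3L.NullTools

/-!
# NO-3L: NOFF for two residues (text: bb OMEGA #14170 (T3), last sentence, helper256)

`D : Sys S Z F`; for an `N`-invariant `F₁ ⊆ F` let `A Z N F₁ = ⟨Z^⟨N, F₁⟩⟩` (`F₁ = {P}`, `N = 1`: the line
`V_P`; `F₁ = P*(S)`, `N = N_G(S)`: the M-line).

* `comm_of_gal₂` : `Basic.Sys.comm_of_gal` for two families;
* `comm_of_le_normalizer₂` : two such groups (conjugates, of possibly different types) which normalise each
  other commute;
* `mline_comm` : in NOFF, `V = ⟨Z^M⟩`, `M = ⟨P*(S), N_G(S)⟩`, and a line `l` which normalise each other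
  commute.
-/

set_option autoImplicit false

namespace Cfsg.Agent.Omega.NO3L.Mixed

open Subgroup Cfsg.Agent.Omega.NoFF.Basic Cfsg.Agent.Omega.NoFF.Main
open scoped Pointwise

variable {G : Type*} [Group G]

section gal

variable {S Z : Subgroup G} {F F₁ F₂ : Set (Subgroup G)}

theorem _root_.Cfsg.Agent.Omega.NoFF.Basic.Gal.mono {F F' : Set (Subgroup G)} (h : F ⊆ F') {k : ℕ} {a b : G}
    (H : Gal F k a b) : Gal F' k a b := by
  induction H with
  | zero => exact Gal.zero _
  | step _ hP hp ih => exact ih.step (h hP) hp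

/-- **(3), galleries of two types.** -/
theorem comm_of_gal₂ (D : Sys S Z F) (hF₁ : F₁ ⊆ F) (hF₂ : F₂ ⊆ F) {x y : G}
    (hx : ∀ i a, Gal F₁ i x a → MulAut.conj a • Z ≤ MulAut.conj y • S)
    (hy : ∀ j b, Gal F₂ j y b → MulAut.conj b • Z ≤ MulAut.conj x • S) (n : ℕ) :
    ∀ i j, i + j = n → ∀ a b, Gal F₁ i x a → Gal F₂ j y b →
      MulAut.conj a • Z ≤ centralizer ((MulAut.conj b • Z : Subgroup G) : Set G) := by
  induction n using Nat.strong_induction_on with
  | _ n ih =>
    intro i j hij a b ha hb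
    have hS : ∀ c : G, MulAut.conj c • S ≤ centralizer ((MulAut.conj c • Z : Subgroup G) : Set G) :=
      fun c => conj_le_centralizer D.cent
    cases ha with
    | zero => exact comm_symm ((hy j b hb).trans (hS _))
    | @step i _ a' p P ha' hP hp =>
      cases hb with
      | zero => exact (hx _ _ (ha'.step hP hp)).trans (hS _)
      | @step j _ b' p' P' hb' hP' hp' =>
        -- walking along the second gallery
        have w1 : ∀ i' a'', i' ≤ i + 1 → Gal F₁ i' x a'' → ∀ j' b'', j' ≤ j → Gal F₂ j' y b'' →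
            MulAut.conj a'' • Z ≤ MulAut.conj b'' • S := by
          intro i' a'' hi' ha'' j'
          induction j' with
          | zero =>
            intro b'' _ hb''
            cases hb''
            exact hx _ _ ha''
          | succ j' ihj =>
            intro b'' hj' hb''
            cases hb'' with
            | @step _ _ c q Q hc hQ hq =>
              refine D.pass (hF₂ hQ) hq (ihj c (by omega) hc) fun q' hq' => ?_
              exact ih (i' + (j' + 1)) (by omega) i' (j' + 1) rfl _ _ ha'' (hc.step hQ hq')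
        have w2 : ∀ j' b'', j' ≤ j + 1 → Gal F₂ j' y b'' → ∀ i' a'', i' ≤ i → Gal F₁ i' x a'' →
            MulAut.conj b'' • Z ≤ MulAut.conj a'' • S := by
          intro j' b'' hj' hb'' i'
          induction i' with
          | zero =>
            intro a'' _ ha''
            cases ha''
            exact hy _ _ hb''
          | succ i' ihi =>
            intro a'' hi' ha''
            cases ha'' with
            | @step _ _ c q Q hc hQ hq =>
              refine D.pass (hF₁ hQ) hq (ihi c (by omega) hc) fun q' hq' => ?_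
              exact comm_symm (ih ((i' + 1) + j') (by omega) (i' + 1) j' rfl _ _ (hc.step hQ hq') hb'')
        have h1 : MulAut.conj a' • V Z P ≤ MulAut.conj b' • P' :=
          (conj_V_le fun q hq => w1 (i + 1) _ le_rfl (ha'.step hP hq) j b' le_rfl hb').trans
            (conj_le_iff.2 (D.SP P' (hF₂ hP')))
        have h2 : MulAut.conj b' • V Z P' ≤ MulAut.conj a' • P :=
          (conj_V_le fun q hq => w2 (j + 1) _ le_rfl (hb'.step hP' hq) i a' le_rfl ha').trans
            (conj_le_iff.2 (D.SP P (hF₁ hP)))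
        exact comm_mono (D.noff' (hF₁ hP) (hF₂ hP') h1 h2) (conj_Z_le hp) (conj_Z_le hp')

end gal

section main

variable {S Z N₁ N₂ : Subgroup G} {F F₁ F₂ : Set (Subgroup G)}

/-- the group `A Z N₁ F₁` is a `p`-group, `F₁ ⊆ F`. -/
theorem sys_mono (D : Sys S Z F) (h : F₁ ⊆ F) : Sys S Z F₁ where
  ZS := D.ZS
  cent := D.cent
  SP P hP := D.SP P (h hP)
  abel P hP := D.abel P (h hP)
  core P hP := D.core P (h hP)
  noff P hP P' hP' := D.noff P (h hP) P' (h hP')

/-- **(3)** in terms of chambers. -/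
theorem comm_of_le₂ (D : Sys S Z F) (hF₁ : F₁ ⊆ F) (hF₂ : F₂ ⊆ F) (h₁ : Inv S Z N₁ F₁)
    (h₂ : Inv S Z N₂ F₂) {x y : G} (h1 : MulAut.conj x • A Z N₁ F₁ ≤ MulAut.conj y • S)
    (h2 : MulAut.conj y • A Z N₂ F₂ ≤ MulAut.conj x • S) :
    MulAut.conj x • A Z N₁ F₁ ≤ centralizer ((MulAut.conj y • A Z N₂ F₂ : Subgroup G) : Set G) := by
  have hx : ∀ i a, Gal F₁ i x a → MulAut.conj a • Z ≤ MulAut.conj y • S := fun i a ha => (Z_le_A ha).trans h1
  have hy : ∀ i a, Gal F₂ i y a → MulAut.conj a • Z ≤ MulAut.conj x • S := fun i a ha => (Z_le_A ha).trans h2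
  refine conj_A_le h₁ fun i a ha => comm_symm (conj_A_le h₂ fun j b hb => ?_)
  exact comm_symm (comm_of_gal₂ D hF₁ hF₂ hx hy _ i j rfl a b ha hb)

/-- **(3), two types.** -/
theorem comm_of_le_normalizer₂ [Finite G] {p : ℕ} [Fact p.Prime] {S : Sylow p G} (D : Sys (S : Subgroup G) Z F)
    (hF₁ : F₁ ⊆ F) (hF₂ : F₂ ⊆ F)
    (h₁ : Inv (S : Subgroup G) Z N₁ F₁) (h₂ : Inv (S : Subgroup G) Z N₂ F₂)
    (hS₁ : (S : Subgroup G) ≤ normalizer (A Z N₁ F₁ : Set G))
    (hS₂ : (S : Subgroup G) ≤ normalizer (A Z N₂ F₂ : Set G)) {g : G}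
    (h1 : MulAut.conj g • A Z N₂ F₂ ≤ normalizer (A Z N₁ F₁ : Set G))
    (h2 : A Z N₁ F₁ ≤ normalizer ((MulAut.conj g • A Z N₂ F₂ : Subgroup G) : Set G)) :
    A Z N₁ F₁ ≤ centralizer ((MulAut.conj g • A Z N₂ F₂ : Subgroup G) : Set G) := by
  have hA₁ : IsPGroup p (A Z N₁ F₁) := isPGroup (sys_mono D hF₁) h₁ (S.2.to_le D.ZS)
  have hA₂ : IsPGroup p (A Z N₂ F₂) := isPGroup (sys_mono D hF₂) h₂ (S.2.to_le D.ZS)
  obtain ⟨m, hm, h3⟩ := exists_le_conj S hS₁ (hA₂.map (MulAut.conj g).toMonoidHom) h1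
  obtain ⟨m', hm', h4⟩ := exists_le_conj S hS₂ (hA₁.map (MulAut.conj g⁻¹).toMonoidHom) (by
    rw [normalizer_conj] at h2
    have := conj_le_iff (g := g⁻¹) |>.2 h2
    rwa [conj_conj, inv_mul_cancel, map_one, one_smul] at this)
  have h5 := conj_le_iff (g := g) |>.2 h4
  have h6 : MulAut.conj g • (A Z N₁ F₁).map (MulAut.conj g⁻¹).toMonoidHom = A Z N₁ F₁ := by
    change MulAut.conj g • (MulAut.conj g⁻¹ • A Z N₁ F₁) = _
    rw [conj_conj, mul_inv_cancel, map_one, one_smul]
  rw [h6, conj_conj] at h5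
  have h7 : MulAut.conj (g * m') • A Z N₂ F₂ = MulAut.conj g • A Z N₂ F₂ := by
    rw [← conj_conj, conj_eq_of_mem_normalizer hm']
  have h8 := comm_of_le₂ D hF₁ hF₂ h₁ h₂ (x := m) (y := g * m')
    (by rw [conj_eq_of_mem_normalizer hm]; exact h5) (by rw [h7]; exact h3)
  rwa [conj_eq_of_mem_normalizer hm, h7] at h8

theorem inv_singleton (S Z P : Subgroup G) : Inv S Z ⊥ {P} where
  nS n hn := by rw [mem_bot.1 hn, map_one, one_smul]
  nZ n hn := by rw [mem_bot.1 hn, map_one, one_smul]
  nF n hn P hP := by rw [mem_bot.1 hn, map_one, one_smul]; exact hP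

theorem A_singleton (Z P : Subgroup G) : A Z ⊥ {P} = V Z P := by
  rw [A, X, sSup_singleton, bot_sup_eq]

end main

/-! ### The frame -/

section frame

open Cfsg Cfsg.Agent.ZN Cfsg.Agent.Omega.MinPar Cfsg.Agent.MinSimple.VModule Cfsg.Agent.Omega
open Cfsg.Agent.Omega.NoFF.LinesPlug (PStar sys V_eq)
open Cfsg.Agent.Omega.NO3L.NullTools

universe u

variable {G : Type u} [Group G] [Finite G]

/-- `N_G(S)` permutes `P*(S)`. -/
theorem inv_PStar (S : Subgroup G) :
    Inv S (zc S) (normalizer (S : Set G)) (PStar S) where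
  nS n hn := NoFF.Main.conj_eq_of_mem_normalizer hn
  nZ n hn := NoFF.Main.conj_eq_of_mem_normalizer (normalizer_le_normalizer_zc _ hn)
  nF n hn P hP := by
    have h1 := isParS_conj (show IsParS S P from hP) n
    rwa [NoFF.Main.conj_eq_of_mem_normalizer hn] at h1

/-- `M = ⟨N_G(S), P*(S)⟩` -/
def MM (S : Subgroup G) : Subgroup G := normalizer (S : Set G) ⊔ sSup (PStar S)

omit [Finite G] in
theorem A_eq_zl (S : Subgroup G) : A (zc S) (normalizer (S : Set G)) (PStar S) = zl S (MM S) := rfl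

omit [Finite G] in
theorem le_MM (S : Subgroup G) : S ≤ MM S := le_normalizer.trans le_sup_left

/-- **Big NOFF, mixed**: an `M`-line and a line which normalise each other commute. -/
theorem mline_comm (hG : IsCharacteristicTwoType G) (S : Sylow 2 G) (hF : ¬ FF (S : Subgroup G))
    {P : Subgroup G} (hP : IsParS (S : Subgroup G) P) {g : G}
    (h1 : MulAut.conj g • zl (S : Subgroup G) P ≤
      normalizer (zl (S : Subgroup G) (MM (S : Subgroup G)) : Set G))
    (h2 : zl (S : Subgroup G) (MM (S : Subgroup G)) ≤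
      normalizer ((MulAut.conj g • zl (S : Subgroup G) P : Subgroup G) : Set G)) :
    zl (S : Subgroup G) (MM (S : Subgroup G)) ≤
      centralizer ((MulAut.conj g • zl (S : Subgroup G) P : Subgroup G) : Set G) := by
  have : Fact (Nat.Prime 2) := ⟨Nat.prime_two⟩
  have h3 := comm_of_le_normalizer₂ (N₁ := normalizer ((S : Subgroup G) : Set G)) (N₂ := ⊥)
    (F₁ := PStar (S : Subgroup G)) (F₂ := {P}) (sys hG S hF) le_rfl
    (Set.singleton_subset_iff.2 hP) (inv_PStar _) (inv_singleton _ _ P)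
    (by rw [A_eq_zl]; exact (le_MM _).trans (le_normalizer_zl _ _))
    (by rw [A_singleton, V_eq]; exact hP.le.trans (le_normalizer_zl _ _)) (g := g)
    (by rw [A_eq_zl, A_singleton, V_eq]; exact h1)
    (by rw [A_eq_zl, A_singleton, V_eq]; exact h2)
  rwa [A_eq_zl, A_singleton, V_eq] at h3

/-- **(T3), M-lines.** The line `l` of the two-step lemma centralises every `M`-line `V^x ≤ U'` which it
normalises. -/
theorem null_mline (hG : IsCharacteristicTwoType G) (S : Sylow 2 G) (hF : ¬ FF (S : Subgroup G))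
    {H l : Subgroup G} (hl : IsLine (S : Subgroup G) H l) {U' : Subgroup G}
    (hU' : U' ≤ normalizer (l : Set G)) {x : G}
    (h1 : MulAut.conj x • zl (S : Subgroup G) (MM (S : Subgroup G)) ≤ U')
    (h2 : l ≤ normalizer ((MulAut.conj x • zl (S : Subgroup G) (MM (S : Subgroup G)) : Subgroup G) : Set G)) :
    l ≤ centralizer ((MulAut.conj x • zl (S : Subgroup G) (MM (S : Subgroup G)) : Subgroup G) : Set G) := by
  obtain ⟨y, hy, P, hP, hPH, rfl⟩ := hl
  have h3 := h1.trans hU'
  have e : ∀ B : Subgroup G, MulAut.conj y • B = MulAut.conj x • (MulAut.conj (x⁻¹ * y) • B) := by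
    intro B
    rw [conj_conj, mul_inv_cancel_left]
  rw [e] at h2 h3 ⊢
  rw [conj_normalizer, conj_le_iff] at h2 h3
  exact conj_le_centralizer (comm_symm (mline_comm hG S hF hP h2 h3))

end frame

end Cfsg.Agent.Omega.NO3L.Mixed
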