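import Cfsg.Agent.Omega.NoFF.LinesPlug
import Cfsg.Agent.Omega.NoFF.ThmJ
import Cfsg.Agent.Omega.NOThreeL.PointStab

/-!
# NO-3L: K-free tools (text: bb OMEGA #14170, helper256)

`S` is a Sylow 2-subgroup of `G`, `Z = Ω₁(Z(S)) = zc S`, `U_H = zl S H`, `CC S = C_G(Z)`.

* `IsLine S H l` : `l = (V_P)^h`, `P ∈ P*(S)`, `P ≤ H`, `h ∈ H`: a line of `U_H`;
* `Null S H A` : `A` centralises every line of `U_H` which it normalises;
* (T2) `null_iff` : for a 2-subgroup `A ≤ H`: `A` is null iff `A ≤ O₂(J_T)` for every Sylow subgroup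
  `T = S^h` of `H` containing `A`, where `J_S = ⟨S, P : P ∈ P*(S), P ≤ H⟩` (`JJ S H`);
  `Null.exists_of_not_le`: if moreover `[U_H, A] ≠ 1` there are `T = S^h ≥ A` and `R ∈ P(S)`,
  `R ≤ H ∩ C_G(Z)`, with `A ≰ O₂(R)^h`;
* (T3) `two_step`: in NOFF, `U' ≤ N(U)`, `U ≤ N(U')`, `U'` not null on `U`: there is a line `l ≤ U`,
  `U' ≤ N(l)`, `[l, U'] ≠ 1`, which is null on `U'`; `two_step_card`: `|U' : C_U'(l)| ≤ |l : C_l(U')|`
  if there are no over-offenders on `l`;
* (T4) `le_o2_centralizer`: `A ≤ O₂(C_G(Z))`, `Z ≤ X`, `[A, X] = 1`, `Z' ≤ X`, `C_G(Z') ≤ N_G(X)`: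
  `A ≤ O₂(C_G(Z'))`; `o2_CC_le_normalizer`: `O₂(C_G(Z))` normalises every line on the point `Z`;
  `line_comm`: in NOFF, a line on `Z^a` inside `O₂(C_G(Z^b))` and a line on `Z^b` inside
  `O₂(C_G(Z^a))` commute.
-/

set_option autoImplicit false

namespace Cfsg.Agent.Omega.NO3L.NullTools

open Subgroup Cfsg Cfsg.Agent.ZN Cfsg.Agent.Omega.MinPar Cfsg.Agent.MinSimple.VModule
open Cfsg.Agent.Omega
open Cfsg.Agent.Omega.NoFF.Basic (conj_conj mem_conj conj_le_iff conj_le_centralizer comm_symm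
  comm_mono)
open Cfsg.Agent.Omega.NoFF.Main (exists_le_conj conj_eq_of_mem_normalizer)
open Cfsg.Agent.Omega.NoFF.LinesPlug (CC)
open scoped Pointwise

universe u

variable {G : Type u} [Group G]

/-! ### Conjugation -/

theorem conj_inv_conj (g : G) (A : Subgroup G) : MulAut.conj g⁻¹ • (MulAut.conj g • A) = A := by
  rw [conj_conj, inv_mul_cancel, map_one, one_smul]

theorem conj_conj_inv (g : G) (A : Subgroup G) : MulAut.conj g • (MulAut.conj g⁻¹ • A) = A := by
  rw [conj_conj, mul_inv_cancel, map_one, one_smul]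

theorem conj_le_iff' {g : G} {A B : Subgroup G} :
    MulAut.conj g⁻¹ • A ≤ B ↔ A ≤ MulAut.conj g • B := by
  rw [← conj_le_iff (g := g), conj_conj_inv]

theorem conj_centralizer (g : G) (A : Subgroup G) :
    centralizer ((MulAut.conj g • A : Subgroup G) : Set G) = MulAut.conj g • centralizer (A : Set G) := by
  apply le_antisymm
  · rw [← conj_le_iff', ← conj_inv_conj g A]
    have h := conj_le_centralizer (g := g⁻¹)
      (le_refl (centralizer ((MulAut.conj g • A : Subgroup G) : Set G)))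
    rw [conj_inv_conj] at h ⊢
    exact h
  · exact conj_le_centralizer le_rfl

theorem conj_normalizer (g : G) (A : Subgroup G) :
    normalizer ((MulAut.conj g • A : Subgroup G) : Set G) = MulAut.conj g • normalizer (A : Set G) :=
  NoFF.Main.normalizer_conj A g

theorem conj_le_normalizer {g : G} {A B : Subgroup G} (h : A ≤ normalizer (B : Set G)) :
    MulAut.conj g • A ≤ normalizer ((MulAut.conj g • B : Subgroup G) : Set G) := by
  rw [conj_normalizer]
  exact conj_le_iff.2 h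

theorem conj_eq_of_mem {g : G} {H : Subgroup G} (hg : g ∈ H) : MulAut.conj g • H = H :=
  Subgroup.conj_smul_eq_self_of_mem hg

/-- `X` normalises `B` if `B^x ≤ B` for all `x ∈ X`. -/
theorem le_normalizer_of_conj {X B : Subgroup G} (h : ∀ x ∈ X, MulAut.conj x • B ≤ B) :
    X ≤ normalizer (B : Set G) := by
  intro g hg
  rw [mem_normalizer_iff]
  intro y
  constructor
  · intro hy
    apply h g hg
    rw [mem_conj]
    simpa [mul_assoc] using hy
  · intro hy
    apply h g⁻¹ (X.inv_mem hg)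
    rw [mem_conj]
    simpa [mul_assoc] using hy

theorem conj_sSup (g : G) (T : Set (Subgroup G)) {C : Subgroup G}
    (h : ∀ B ∈ T, MulAut.conj g • B ≤ C) : MulAut.conj g • sSup T ≤ C := by
  rw [Subgroup.pointwise_smul_subset_iff]
  refine sSup_le fun B hB => ?_
  rw [← Subgroup.pointwise_smul_subset_iff]
  exact h B hB

theorem zl_conj (g : G) (S H : Subgroup G) :
    zl (MulAut.conj g • S) (MulAut.conj g • H) = MulAut.conj g • zl S H :=
  zl_map (MulAut.conj g).toMonoidHom (MulAut.conj g).injective S H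

theorem isParS_conj {S P : Subgroup G} (h : IsParS S P) (g : G) :
    IsParS (MulAut.conj g • S) (MulAut.conj g • P) := IsParS.map (MulAut.conj g) h

theorem isParS_conj_iff {S P : Subgroup G} {g : G} :
    IsParS (MulAut.conj g • S) (MulAut.conj g • P) ↔ IsParS S P := by
  refine ⟨fun h => ?_, fun h => isParS_conj h g⟩
  have h1 := isParS_conj h g⁻¹
  rwa [conj_inv_conj, conj_inv_conj] at h1

theorem zl_le_zl {S P H : Subgroup G} (h : P ≤ H) : zl S P ≤ zl S H :=
  zl_le (zc_le_zl _ _) (h.trans (le_normalizer_zl _ _))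

/-! ### Lines and null subgroups -/

/-- `l` is a line of `U_H = zl S H`: `l = (V_P)^h`, `P ∈ P*(S)`, `P ≤ H`, `h ∈ H`. -/
def IsLine (S H l : Subgroup G) : Prop :=
  ∃ h ∈ H, ∃ P, IsParS S P ∧ P ≤ H ∧ l = MulAut.conj h • zl S P

/-- `A` is null on `U_H`: it centralises every line of `U_H` which it normalises. -/
def Null (S H A : Subgroup G) : Prop :=
  ∀ l, IsLine S H l → A ≤ normalizer (l : Set G) → A ≤ centralizer (l : Set G)

/-- `⟨S, P : P ∈ P*(S), P ≤ H⟩` -/
def JJ (S H : Subgroup G) : Subgroup G := S ⊔ sSup {P | IsParS S P ∧ P ≤ H}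

theorem le_JJ (S H : Subgroup G) : S ≤ JJ S H := le_sup_left

theorem par_le_JJ {S H P : Subgroup G} (hP : IsParS S P) (hPH : P ≤ H) : P ≤ JJ S H :=
  (le_sSup (show P ∈ {P | IsParS S P ∧ P ≤ H} from ⟨hP, hPH⟩)).trans le_sup_right

theorem JJ_le {S H : Subgroup G} (hS : S ≤ H) : JJ S H ≤ H := sup_le hS (sSup_le fun _ h => h.2)

theorem IsLine.le_zl {S H l : Subgroup G} (h : IsLine S H l) : l ≤ zl S H := by
  obtain ⟨x, hx, P, -, hPH, rfl⟩ := h
  have h1 : MulAut.conj x • zl S H = zl S H := conj_eq_of_mem_normalizer (le_normalizer_zl S H hx)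
  rw [← h1]
  exact conj_le_iff.2 (zl_le_zl hPH)

theorem IsLine.conj {S H l : Subgroup G} (h : IsLine S H l) (g : G) :
    IsLine (MulAut.conj g • S) (MulAut.conj g • H) (MulAut.conj g • l) := by
  obtain ⟨x, hx, P, hP, hPH, rfl⟩ := h
  refine ⟨g * x * g⁻¹, ?_, MulAut.conj g • P, isParS_conj hP g, conj_le_iff.2 hPH, ?_⟩
  · rw [mem_conj]
    simpa [mul_assoc] using hx
  · rw [zl_conj, conj_conj, conj_conj]
    congr 2
    group

theorem isLine_conj_iff {S H l : Subgroup G} (g : G) :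
    IsLine (MulAut.conj g • S) (MulAut.conj g • H) (MulAut.conj g • l) ↔ IsLine S H l := by
  refine ⟨fun h => ?_, fun h => h.conj g⟩
  have h1 := h.conj g⁻¹
  rwa [conj_inv_conj, conj_inv_conj, conj_inv_conj] at h1

/-- The lines are permuted by `H`. -/
theorem IsLine.conj_mem {S H l : Subgroup G} (h : IsLine S H l) {g : G} (hg : g ∈ H) :
    IsLine S H (MulAut.conj g • l) := by
  obtain ⟨x, hx, P, hP, hPH, rfl⟩ := h
  exact ⟨g * x, H.mul_mem hg hx, P, hP, hPH, by rw [conj_conj]⟩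

/-- The lines of `U_H` do not depend on the choice of the Sylow 2-subgroup of `H`. -/
theorem isLine_conj_base {S H l : Subgroup G} {g : G} (hg : g ∈ H) :
    IsLine (MulAut.conj g • S) H l ↔ IsLine S H l := by
  have h1 := isLine_conj_iff (S := S) (H := H) (l := MulAut.conj g⁻¹ • l) g
  rw [conj_conj_inv, conj_eq_of_mem hg] at h1
  rw [h1]
  refine ⟨fun h => ?_, fun h => h.conj_mem (inv_mem hg)⟩
  have h2 := h.conj_mem hg
  rwa [conj_conj_inv] at h2

/-- `A` null implies `A^h` null, `h ∈ H`. -/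
theorem Null.conj_mem {S H A : Subgroup G} (h : Null S H A) {g : G} (hg : g ∈ H) :
    Null S H (MulAut.conj g • A) := by
  intro l hl hA
  have h3 : A ≤ normalizer ((MulAut.conj g⁻¹ • l : Subgroup G) : Set G) := by
    rw [conj_normalizer, ← conj_le_iff', inv_inv]
    exact hA
  have h4 := h _ (hl.conj_mem (inv_mem hg)) h3
  rwa [conj_centralizer, ← conj_le_iff', inv_inv] at h4

theorem null_conj_iff {S H A : Subgroup G} (g : G) :
    Null (MulAut.conj g • S) (MulAut.conj g • H) (MulAut.conj g • A) ↔ Null S H A := by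
  constructor
  · intro h l hl hA
    have h1 := h _ (hl.conj g) (conj_le_normalizer hA)
    rw [conj_centralizer] at h1
    exact conj_le_iff.1 h1
  · intro h l hl hA
    obtain ⟨m, rfl⟩ : ∃ m : Subgroup G, l = MulAut.conj g • m :=
      ⟨MulAut.conj g⁻¹ • l, (conj_conj_inv g l).symm⟩
    rw [conj_normalizer] at hA
    rw [conj_centralizer]
    exact conj_le_iff.2 (h m ((isLine_conj_iff g).1 hl) (conj_le_iff.1 hA))

theorem null_conj_base {S H A : Subgroup G} {g : G} (hg : g ∈ H) :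
    Null (MulAut.conj g • S) H A ↔ Null S H A :=
  ⟨fun h l hl => h l ((isLine_conj_base hg).2 hl), fun h l hl => h l ((isLine_conj_base hg).1 hl)⟩

/-! ### Galleries -/

/-- The subgroup generated by the `H`-conjugates of `A` contained in `S`. -/
def gal (S H A : Subgroup G) : Subgroup G := sSup {B | (∃ h ∈ H, B = MulAut.conj h • A) ∧ B ≤ S}

theorem gal_le (S H A : Subgroup G) : gal S H A ≤ S := sSup_le fun _ h => h.2

theorem le_gal {S H A : Subgroup G} {h : G} (hh : h ∈ H) (h1 : MulAut.conj h • A ≤ S) :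
    MulAut.conj h • A ≤ gal S H A :=
  le_sSup (show MulAut.conj h • A ∈ {B | (∃ h ∈ H, B = MulAut.conj h • A) ∧ B ≤ S} from
    ⟨⟨h, hh, rfl⟩, h1⟩)

/-- `X ≤ H` normalises `gal` if `B^x ≤ S` for every `H`-conjugate `B ≤ S` of `A`, `x ∈ X`. -/
theorem le_normalizer_gal {S H A X : Subgroup G} (hX : X ≤ H)
    (h : ∀ x ∈ X, ∀ k ∈ H, MulAut.conj k • A ≤ S → MulAut.conj x • (MulAut.conj k • A) ≤ S) :
    X ≤ normalizer (gal S H A : Set G) := by
  refine le_normalizer_of_conj fun x hx => conj_sSup _ _ ?_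
  rintro _ ⟨⟨k, hk, rfl⟩, h1⟩
  have h2 := h x hx k hk h1
  rw [conj_conj] at h2 ⊢
  exact le_gal (H.mul_mem (hX hx) hk) h2

section Finite

variable [Finite G]

/-- A 2-subgroup `A` of `N ≥ S^x` lies in `S^(n x)` for some `n ∈ N`. -/
theorem exists_le_conj' (S : Sylow 2 G) {N A : Subgroup G} {x : G}
    (hS : MulAut.conj x • (S : Subgroup G) ≤ N) (hA : IsPGroup 2 A) (hAN : A ≤ N) :
    ∃ n ∈ N, A ≤ MulAut.conj (n * x) • (S : Subgroup G) := by
  have : Fact (Nat.Prime 2) := ⟨Nat.prime_two⟩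
  have h1 : (S : Subgroup G) ≤ MulAut.conj x⁻¹ • N := by
    rw [← conj_le_iff (g := x), conj_conj_inv]
    exact hS
  obtain ⟨m, hm, h2⟩ := exists_le_conj S h1 (hA.map (MulAut.conj x⁻¹).toMonoidHom)
    (show MulAut.conj x⁻¹ • A ≤ MulAut.conj x⁻¹ • N from conj_le_iff.2 hAN)
  rw [mem_conj, inv_inv] at hm
  refine ⟨x * m * x⁻¹, hm, ?_⟩
  have h3 : MulAut.conj x⁻¹ • A ≤ MulAut.conj m • (S : Subgroup G) := h2
  rw [conj_le_iff', conj_conj] at h3
  rwa [inv_mul_cancel_right]

/-- `O₂(P) ≤ C(V_P)`. -/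
theorem o2_le_centralizer (hG : IsCharacteristicTwoType G) (S : Sylow 2 G) {H : Subgroup G}
    (h : IsLoc (S : Subgroup G) H) : o2 H ≤ centralizer (zl (S : Subgroup G) H : Set G) :=
  o2_le_centralizer_zl h.le S.isPGroup' (MinSimple.Basic.not_dvd_relIndex S h.le) (h.char2 S hG)

/-- `O₂(J_S) ≤ O₂(P)` for `P ∈ P*(S)`, `P ≤ H`. -/
theorem o2_JJ_le (S : Sylow 2 G) {H P : Subgroup G} (hP : IsParS (S : Subgroup G) P)
    (hPH : P ≤ H) : o2 (JJ (S : Subgroup G) H) ≤ o2 P :=
  o2_le_o2 S hP.le (par_le_JJ hP hPH)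

/-! ### (T2) The null lemma -/

/-- `A` null, `A ≤ S^x`, `x ∈ H`: `A ≤ O₂(P)^x` for `P ∈ P*(S)`, `P ≤ H`. -/
theorem Null.le_conj_o2 (hG : IsCharacteristicTwoType G) (S : Sylow 2 G) {H A : Subgroup G}
    (h : Null (S : Subgroup G) H A) {x : G} (hx : x ∈ H)
    (hA : A ≤ MulAut.conj x • (S : Subgroup G)) {P : Subgroup G} (hP : IsParS (S : Subgroup G) P)
    (hPH : P ≤ H) : A ≤ MulAut.conj x • o2 P := by
  have h1 := h (MulAut.conj x • zl (S : Subgroup G) P) ⟨x, hx, P, hP, hPH, rfl⟩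
    (hA.trans (conj_le_normalizer (hP.le.trans (le_normalizer_zl _ _))))
  rw [conj_centralizer] at h1
  rw [← hP.inf_centralizer S hG, Subgroup.smul_inf]
  exact le_inf hA h1

/-- A subgroup which is not null moves a line `(V_P)^x` with `A ≤ S^x`. -/
theorem exists_of_not_null (S : Sylow 2 G) {H A : Subgroup G} (hSH : (S : Subgroup G) ≤ H)
    (hA : IsPGroup 2 A) (hAH : A ≤ H) (h : ¬ Null (S : Subgroup G) H A) :
    ∃ x ∈ H, A ≤ MulAut.conj x • (S : Subgroup G) ∧ ∃ P, IsParS (S : Subgroup G) P ∧ P ≤ H ∧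
      ¬ A ≤ centralizer ((MulAut.conj x • zl (S : Subgroup G) P : Subgroup G) : Set G) := by
  unfold Null at h
  push Not at h
  obtain ⟨l, ⟨y, hy, P, hP, hPH, rfl⟩, h1, h2⟩ := h
  have hS : MulAut.conj y • (S : Subgroup G) ≤
      H ⊓ normalizer ((MulAut.conj y • zl (S : Subgroup G) P : Subgroup G) : Set G) := by
    refine le_inf ?_ (conj_le_normalizer (hP.le.trans (le_normalizer_zl _ _)))
    calc MulAut.conj y • (S : Subgroup G) ≤ MulAut.conj y • H := conj_le_iff.2 hSH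
      _ = H := conj_eq_of_mem hy
  obtain ⟨n, hn, h3⟩ := exists_le_conj' S hS hA (le_inf hAH h1)
  refine ⟨n * y, H.mul_mem hn.1 hy, h3, P, hP, hPH, ?_⟩
  rw [← conj_conj n y, conj_eq_of_mem_normalizer hn.2]
  exact h2

/-- **(T2)** A 2-subgroup `A` of `H` is null iff `A ≤ O₂(J_T)` for all Sylow subgroups `T = S^x`
of `H` containing `A`. -/
theorem null_iff (hG : IsCharacteristicTwoType G) (S : Sylow 2 G) {H A : Subgroup G}
    (hSH : (S : Subgroup G) ≤ H) (hA : IsPGroup 2 A) (hAH : A ≤ H) :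
    Null (S : Subgroup G) H A ↔ ∀ x ∈ H, A ≤ MulAut.conj x • (S : Subgroup G) →
      A ≤ MulAut.conj x • o2 (JJ (S : Subgroup G) H) := by
  constructor
  · intro h x hx hAx
    have hJH : JJ (S : Subgroup G) H ≤ H := JJ_le hSH
    have key : JJ (S : Subgroup G) H ≤ normalizer (gal (S : Subgroup G) H A : Set G) := by
      refine sup_le ?_ (sSup_le ?_)
      · refine le_normalizer_gal hSH fun s hs k _ h1 => ?_
        calc MulAut.conj s • (MulAut.conj k • A) ≤ MulAut.conj s • (S : Subgroup G) := conj_le_iff.2 h1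
          _ = S := conj_eq_of_mem hs
      · rintro P ⟨hP, hPH⟩
        refine le_normalizer_gal hPH fun p hp k hk h1 => ?_
        have h2 := (h.conj_mem hk).le_conj_o2 hG S H.one_mem
          (by rw [map_one, one_smul]; exact h1) hP hPH
        rw [map_one, one_smul] at h2
        calc MulAut.conj p • (MulAut.conj k • A) ≤ MulAut.conj p • o2 P := conj_le_iff.2 h2
          _ = o2 P := conj_eq_of_mem_normalizer (le_normalizer_o2 P hp)
          _ ≤ S := hP.isLoc.o2_le S
    have h3 : gal (S : Subgroup G) H A ≤ o2 (JJ (S : Subgroup G) H) :=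
      le_o2 ((gal_le _ _ _).trans (le_JJ _ _)) (S.isPGroup'.to_le (gal_le _ _ _)) key
    rw [← conj_le_iff'] at hAx ⊢
    exact (le_gal (inv_mem hx) hAx).trans h3
  · intro h
    by_contra hcon
    obtain ⟨x, hx, h1, P, hP, hPH, h2⟩ := exists_of_not_null S hSH hA hAH hcon
    apply h2
    rw [conj_centralizer]
    refine (h x hx h1).trans (conj_le_iff.2 ((o2_JJ_le S hP hPH).trans ?_))
    exact o2_le_centralizer hG S hP.isLoc

/-- **(T2)**, second part: `A` null on `U_H` and `[U_H, A] ≠ 1`: there are a Sylow subgroup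
`T = S^x ≥ A` of `H` and `R ∈ P(S)`, `R ≤ H ∩ C_G(Z)`, with `A ≰ O₂(R)^x`. -/
theorem Null.exists_of_not_le (hG : IsCharacteristicTwoType G) (S : Sylow 2 G) {H A : Subgroup G}
    (hH : IsLoc (S : Subgroup G) H) (hA : IsPGroup 2 A) (hAH : A ≤ H)
    (h : Null (S : Subgroup G) H A) (hne : ¬ A ≤ centralizer (zl (S : Subgroup G) H : Set G)) :
    ∃ x ∈ H, A ≤ MulAut.conj x • (S : Subgroup G) ∧ ∃ R, IsPar (S : Subgroup G) R ∧ R ≤ H ∧
      R ≤ CC (S : Subgroup G) ∧ ¬ A ≤ MulAut.conj x • o2 R := by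
  by_contra hcon
  push Not at hcon
  have hpar : ∀ k ∈ H, MulAut.conj k • A ≤ (S : Subgroup G) → ∀ P, IsPar (S : Subgroup G) P →
      P ≤ H → MulAut.conj k • A ≤ o2 P := by
    intro k hk h1 P hP hPH
    by_cases hz : P ≤ normalizer (zc (S : Subgroup G) : Set G)
    · have h2 := hcon k⁻¹ (inv_mem hk) (by rwa [← conj_le_iff', inv_inv]) P hP hPH
        (NoFF.LinesPlug.le_CC S hP hz)
      rwa [← conj_le_iff', inv_inv] at h2
    · have h2 := (h.conj_mem hk).le_conj_o2 hG S H.one_mem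
          (by rw [map_one, one_smul]; exact h1) ⟨hP, hz⟩ hPH
      rwa [map_one, one_smul] at h2
  have hN : H ≤ normalizer (gal (S : Subgroup G) H A : Set G) := by
    refine hH.le_of_forall S ?_ fun P hP hPH => ?_
    · refine le_normalizer_gal inf_le_left fun n hn k _ h1 => ?_
      calc MulAut.conj n • (MulAut.conj k • A) ≤ MulAut.conj n • (S : Subgroup G) := conj_le_iff.2 h1
        _ = S := conj_eq_of_mem_normalizer hn.2
    · refine le_normalizer_gal hPH fun p hp k hk h1 => ?_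
      calc MulAut.conj p • (MulAut.conj k • A) ≤ MulAut.conj p • o2 P :=
            conj_le_iff.2 (hpar k hk h1 P hP hPH)
        _ = o2 P := conj_eq_of_mem_normalizer (le_normalizer_o2 P hp)
        _ ≤ S := hP.isLoc.o2_le S
  have h3 : gal (S : Subgroup G) H A ≤ o2 H :=
    le_o2 ((gal_le _ _ _).trans hH.le) (S.isPGroup'.to_le (gal_le _ _ _)) hN
  obtain ⟨n, hn, h4⟩ := exists_le_conj' S (x := 1) (N := H)
    (by rw [map_one, one_smul]; exact hH.le) hA hAH
  rw [mul_one] at h4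
  have h5 : MulAut.conj n⁻¹ • A ≤ (S : Subgroup G) := by rwa [conj_le_iff']
  have h6 := ((le_gal (inv_mem hn) h5).trans h3).trans (o2_le_centralizer hG S hH)
  apply hne
  rw [conj_le_iff'] at h6
  refine h6.trans ?_
  rw [← conj_centralizer, conj_eq_of_mem_normalizer (le_normalizer_zl _ _ hn)]

/-! ### (T3) The two-step lemma -/

/-- In NOFF two lines which normalise each other commute. -/
theorem IsLine.comm {S : Subgroup G} (hF : ¬ FF S) {H l : Subgroup G} (hl : IsLine S H l)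
    {g : G} {H' l' : Subgroup G} (hl' : IsLine (MulAut.conj g • S) H' l')
    (h1 : l ≤ normalizer (l' : Set G)) (h2 : l' ≤ normalizer (l : Set G)) :
    l ≤ centralizer (l' : Set G) := by
  obtain ⟨x, hx, P, hP, hPH, rfl⟩ := hl
  obtain ⟨y, hy, P', hP', hPH', rfl⟩ := hl'
  obtain ⟨Q, rfl⟩ : ∃ Q : Subgroup G, P' = MulAut.conj g • Q :=
    ⟨MulAut.conj g⁻¹ • P', (conj_conj_inv g P').symm⟩
  rw [isParS_conj_iff] at hP'
  rw [zl_conj, conj_conj] at h1 h2 ⊢
  have e : ∀ B : Subgroup G, MulAut.conj (y * g) • B = MulAut.conj x • (MulAut.conj (x⁻¹ * (y * g)) • B) := by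
    intro B
    rw [conj_conj, mul_inv_cancel_left]
  rw [e] at h1 h2 ⊢
  rw [conj_normalizer, conj_le_iff] at h1 h2
  have h3 := commute_of_not_FF hF hP hP' (x⁻¹ * (y * g)) h1 h2
  rw [commutator_eq_bot_iff_le_centralizer] at h3
  exact conj_le_centralizer h3

omit [Finite G] in
/-- `S' = S^g` for Sylow 2-subgroups `S`, `S'`. -/
theorem exists_conj_sylow [Finite G] (S S' : Sylow 2 G) :
    ∃ g : G, (S' : Subgroup G) = MulAut.conj g • (S : Subgroup G) := by
  have : Fact (Nat.Prime 2) := ⟨Nat.prime_two⟩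
  obtain ⟨g, hg⟩ := MulAction.exists_smul_eq G S S'
  exact ⟨g, by rw [← hg]; rfl⟩

theorem IsLine.comm' {S S' : Sylow 2 G} (hF : ¬ FF (S : Subgroup G)) {H l : Subgroup G}
    (hl : IsLine (S : Subgroup G) H l) {H' l' : Subgroup G} (hl' : IsLine (S' : Subgroup G) H' l')
    (h1 : l ≤ normalizer (l' : Set G)) (h2 : l' ≤ normalizer (l : Set G)) :
    l ≤ centralizer (l' : Set G) := by
  obtain ⟨g, hg⟩ := exists_conj_sylow S S'
  rw [hg] at hl'
  exact hl.comm hF hl' h1 h2

/-- **(T3), the two-step lemma**: `U = zl S H`, `U' = zl S' H'` normalise each other (`U' ≤ H`, `U ≤ H'`);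
if `U'` is not null on `U` there is a line `l ≤ U`, `U' ≤ N(l)`, `[l, U'] ≠ 1`, which is null on `U'`. -/
theorem two_step {S S' : Sylow 2 G} (hF : ¬ FF (S : Subgroup G)) {H H' : Subgroup G}
    (h1 : zl (S : Subgroup G) H ≤ normalizer (zl (S' : Subgroup G) H' : Set G))
    (h : ¬ Null (S : Subgroup G) H (zl (S' : Subgroup G) H')) :
    ∃ l, IsLine (S : Subgroup G) H l ∧ l ≤ zl (S : Subgroup G) H ∧
      l ≤ normalizer (zl (S' : Subgroup G) H' : Set G) ∧
      zl (S' : Subgroup G) H' ≤ normalizer (l : Set G) ∧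
      ¬ zl (S' : Subgroup G) H' ≤ centralizer (l : Set G) ∧
      Null (S' : Subgroup G) H' l := by
  unfold Null at h
  push Not at h
  obtain ⟨l, hl, h2, h3⟩ := h
  refine ⟨l, hl, hl.le_zl, hl.le_zl.trans h1, h2, h3, ?_⟩
  intro l' hl' h4
  exact hl.comm' hF hl' h4 (hl'.le_zl.trans h2)

/-- **(T3)**, the alternative: mutually null, or (up to symmetry) a line of `U`, normalised but not
centralised by `U'`, is null on `U'`. -/
theorem two_step_or {S S' : Sylow 2 G} (hF : ¬ FF (S : Subgroup G)) {H H' : Subgroup G}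
    (h1 : zl (S : Subgroup G) H ≤ normalizer (zl (S' : Subgroup G) H' : Set G)) :
    Null (S : Subgroup G) H (zl (S' : Subgroup G) H') ∨
    ∃ l, IsLine (S : Subgroup G) H l ∧ l ≤ zl (S : Subgroup G) H ∧
      l ≤ normalizer (zl (S' : Subgroup G) H' : Set G) ∧
      zl (S' : Subgroup G) H' ≤ normalizer (l : Set G) ∧
      ¬ zl (S' : Subgroup G) H' ≤ centralizer (l : Set G) ∧
      Null (S' : Subgroup G) H' l := by
  by_cases h : Null (S : Subgroup G) H (zl (S' : Subgroup G) H')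
  · exact Or.inl h
  · exact Or.inr (two_step hF h1 h)

/-- No over-offender on the lines: `|A : C_A(l)| ≤ |l : C_l(A)|` for an elementary abelian
`A ≤ N_H(l)`. -/
theorem IsLine.card_le (S : Sylow 2 G) {H l : Subgroup G} (hSH : (S : Subgroup G) ≤ H)
    (bhs : ∀ P, IsParS (S : Subgroup G) P → P ≤ H →
      NoFF.ThmJ.NoOver (S : Subgroup G) (zl (S : Subgroup G) P))
    (hl : IsLine (S : Subgroup G) H l) {A : Subgroup G} (hA : NoFF.ThmJ.EA A) (hAH : A ≤ H)
    (h1 : A ≤ normalizer (l : Set G)) :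
    Nat.card A * Nat.card (l ⊓ centralizer (A : Set G) : Subgroup G) ≤
      Nat.card l * Nat.card (A ⊓ centralizer (l : Set G) : Subgroup G) := by
  obtain ⟨y, hy, P, hP, hPH, rfl⟩ := hl
  have hS : MulAut.conj y • (S : Subgroup G) ≤
      H ⊓ normalizer ((MulAut.conj y • zl (S : Subgroup G) P : Subgroup G) : Set G) := by
    refine le_inf ?_ (conj_le_normalizer (hP.le.trans (le_normalizer_zl _ _)))
    calc MulAut.conj y • (S : Subgroup G) ≤ MulAut.conj y • H := conj_le_iff.2 hSH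
      _ = H := conj_eq_of_mem hy
  obtain ⟨n, hn, h3⟩ := exists_le_conj' S hS hA.isPGroup (le_inf hAH h1)
  have h4 := (bhs P hP hPH).conj h3 hA
  rwa [← conj_conj n y, conj_eq_of_mem_normalizer hn.2] at h4

/-- `zl S H` is elementary abelian. -/
theorem ea_zl (hG : IsCharacteristicTwoType G) (S : Sylow 2 G) {H : Subgroup G}
    (h : IsLoc (S : Subgroup G) H) : NoFF.ThmJ.EA (zl (S : Subgroup G) H) := by
  refine ⟨?_, zl_sq h.le S.isPGroup' (MinSimple.Basic.not_dvd_relIndex S h.le) (h.char2 S hG)⟩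
  intro x hx
  rw [mem_centralizer_iff]
  intro y hy
  exact zl_comm h.le S.isPGroup' (MinSimple.Basic.not_dvd_relIndex S h.le) (h.char2 S hG) y hy x hx

/-- **(T3)** with the inequality `|U' : C_U'(l)| ≤ |l : C_l(U')|`: the line `l` is a null (quadratic)
offender on `U'`. -/
theorem two_step_card (hG : IsCharacteristicTwoType G) {S S' : Sylow 2 G}
    (hF : ¬ FF (S : Subgroup G)) {H H' : Subgroup G} (hSH : (S : Subgroup G) ≤ H)
    (hH' : IsLoc (S' : Subgroup G) H')
    (bhs : ∀ P, IsParS (S : Subgroup G) P → P ≤ H →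
      NoFF.ThmJ.NoOver (S : Subgroup G) (zl (S : Subgroup G) P))
    (h1 : zl (S : Subgroup G) H ≤ normalizer (zl (S' : Subgroup G) H' : Set G))
    (h2 : zl (S' : Subgroup G) H' ≤ H)
    (h : ¬ Null (S : Subgroup G) H (zl (S' : Subgroup G) H')) :
    ∃ l, IsLine (S : Subgroup G) H l ∧ l ≤ zl (S : Subgroup G) H ∧
      l ≤ normalizer (zl (S' : Subgroup G) H' : Set G) ∧
      zl (S' : Subgroup G) H' ≤ normalizer (l : Set G) ∧
      ¬ zl (S' : Subgroup G) H' ≤ centralizer (l : Set G) ∧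
      Null (S' : Subgroup G) H' l ∧
      Nat.card (zl (S' : Subgroup G) H') *
          Nat.card (l ⊓ centralizer (zl (S' : Subgroup G) H' : Set G) : Subgroup G) ≤
        Nat.card l * Nat.card (zl (S' : Subgroup G) H' ⊓ centralizer (l : Set G) : Subgroup G) := by
  obtain ⟨l, hl, h3, h4, h5, h6, h7⟩ := two_step hF h1 h
  exact ⟨l, hl, h3, h4, h5, h6, h7, hl.card_le S hSH bhs (ea_zl hG S' hH') h2 h5⟩

/-! ### (T4) Propagation -/

end Finite

/-- `O₂(C_G(Z)) ∩ C_G(X) ≤ O₂(C_G(X))` for `Z ≤ X`. -/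
theorem inf_le_o2_centralizer {Z X : Subgroup G} (hZ : Z ≤ X) :
    o2 (centralizer (Z : Set G)) ⊓ centralizer (X : Set G) ≤ o2 (centralizer (X : Set G)) := by
  have hCU : centralizer (X : Set G) ≤ centralizer (Z : Set G) := centralizer_le hZ
  refine le_o2 inf_le_right ((o2_isPGroup _).to_le inf_le_left) ?_
  refine le_normalizer_of_conj fun g hg => ?_
  rw [Subgroup.smul_inf, conj_eq_of_mem hg,
    conj_eq_of_mem_normalizer (le_normalizer_o2 (centralizer (Z : Set G)) (hCU hg))]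

/-- `O₂(C_G(X)) ≤ O₂(C_G(Z))` for `Z ≤ X`, `C_G(Z) ≤ N_G(X)`. -/
theorem o2_centralizer_le {Z X : Subgroup G} (hZ : Z ≤ X)
    (hC : centralizer (Z : Set G) ≤ normalizer (X : Set G)) :
    o2 (centralizer (X : Set G)) ≤ o2 (centralizer (Z : Set G)) := by
  refine le_o2 ((o2_le _).trans (centralizer_le hZ)) (o2_isPGroup _) ?_
  refine le_trans ?_ (normalizer_le_normalizer_o2' _)
  exact hC.trans (NoFF.LinesPlug.normalizer_le_normalizer_centralizer' X)

/-- **(T4)** `A ≤ O₂(C_G(Z))`, `Z ≤ X`, `[A, X] = 1`, `Z' ≤ X`, `C_G(Z') ≤ N_G(X)`: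
`A ≤ O₂(C_G(Z'))`. -/
theorem le_o2_centralizer {A X Z Z' : Subgroup G} (hA : A ≤ o2 (centralizer (Z : Set G)))
    (hZ : Z ≤ X) (hAX : A ≤ centralizer (X : Set G)) (hZ' : Z' ≤ X)
    (hC' : centralizer (Z' : Set G) ≤ normalizer (X : Set G)) :
    A ≤ o2 (centralizer (Z' : Set G)) :=
  ((le_inf hA hAX).trans (inf_le_o2_centralizer hZ)).trans (o2_centralizer_le hZ' hC')

/-- **(T4)** for points `Z^a`, `Z^b`. -/
theorem le_conj_o2_CC {S A X : Subgroup G} {a b : G} (hA : A ≤ MulAut.conj a • o2 (CC S))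
    (ha : MulAut.conj a • zc S ≤ X) (hAX : A ≤ centralizer (X : Set G))
    (hb : MulAut.conj b • zc S ≤ X)
    (hC : MulAut.conj b • CC S ≤ normalizer (X : Set G)) : A ≤ MulAut.conj b • o2 (CC S) := by
  have e : ∀ g : G, MulAut.conj g • o2 (CC S) =
      o2 (centralizer ((MulAut.conj g • zc S : Subgroup G) : Set G)) := by
    intro g
    rw [conj_centralizer]
    exact (o2_map_equiv (MulAut.conj g) (CC S)).symm
  rw [e] at hA ⊢
  refine le_o2_centralizer hA ha hAX hb ?_
  rwa [conj_centralizer]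

/-- **(T4)** for a translate `X = (U_H)^a`, `U_H = zl S H`, `C_G(Z) ≤ H`: `A ≤ O₂(C_G(Z^a))`,
`[A, X] = 1` implies `A ≤ O₂(C_G(Z^(a h)))` for all `h ∈ H` (all points of `X` which are
`H`-conjugates of `Z`). -/
theorem le_conj_o2_CC_zl {S A H : Subgroup G} {a h : G} (hA : A ≤ MulAut.conj a • o2 (CC S))
    (hC : CC S ≤ H) (hh : h ∈ H)
    (hAX : A ≤ centralizer ((MulAut.conj a • zl S H : Subgroup G) : Set G)) :
    A ≤ MulAut.conj (a * h) • o2 (CC S) := by
  have h1 : MulAut.conj (a * h) • zl S H = MulAut.conj a • zl S H := by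
    rw [← conj_conj, conj_eq_of_mem_normalizer (le_normalizer_zl S H hh)]
  refine le_conj_o2_CC hA (X := MulAut.conj a • zl S H) (conj_le_iff.2 (zc_le_zl S H)) hAX ?_ ?_
  · rw [← h1]
    exact conj_le_iff.2 (zc_le_zl S H)
  · rw [← h1]
    exact conj_le_normalizer (hC.trans (le_normalizer_zl S H))

section Finite

variable [Finite G]

/-- `O₂(C_G(Z))` normalises every line `(V_P)^c`, `c ∈ C_G(Z)`, on the point `Z`. -/
theorem o2_CC_le_normalizer (S : Sylow 2 G) (hS : (S : Subgroup G) ≠ ⊥) {P : Subgroup G}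
    (hSP : (S : Subgroup G) ≤ P) {c : G} (hc : c ∈ CC (S : Subgroup G)) :
    o2 (CC (S : Subgroup G)) ≤
      normalizer ((MulAut.conj c • zl (S : Subgroup G) P : Subgroup G) : Set G) :=
  (NoFF.LinesPlug.o2_le_conj S (isLoc_centralizer_zc S hS) hc).trans
    (conj_le_normalizer (hSP.trans (le_normalizer_zl _ _)))

/-- the same for the lines on the point `Z^a`. -/
theorem conj_o2_CC_le_normalizer (S : Sylow 2 G) (hS : (S : Subgroup G) ≠ ⊥) {P : Subgroup G}
    (hSP : (S : Subgroup G) ≤ P) {c : G} (hc : c ∈ CC (S : Subgroup G)) (a : G) :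
    MulAut.conj a • o2 (CC (S : Subgroup G)) ≤
      normalizer ((MulAut.conj (a * c) • zl (S : Subgroup G) P : Subgroup G) : Set G) := by
  rw [← conj_conj]
  exact conj_le_normalizer (o2_CC_le_normalizer S hS hSP hc)

/-- In NOFF a line on `Z^a` contained in `O₂(C_G(Z^b))` and a line on `Z^b` contained in
`O₂(C_G(Z^a))` commute. -/
theorem line_comm (S : Sylow 2 G) (hS : (S : Subgroup G) ≠ ⊥) (hF : ¬ FF (S : Subgroup G))
    {P P' : Subgroup G} (hP : IsParS (S : Subgroup G) P) (hP' : IsParS (S : Subgroup G) P')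
    {a b c c' : G} (hc : c ∈ CC (S : Subgroup G)) (hc' : c' ∈ CC (S : Subgroup G))
    (h1 : MulAut.conj (a * c) • zl (S : Subgroup G) P ≤ MulAut.conj b • o2 (CC (S : Subgroup G)))
    (h2 : MulAut.conj (b * c') • zl (S : Subgroup G) P' ≤ MulAut.conj a • o2 (CC (S : Subgroup G))) :
    MulAut.conj (a * c) • zl (S : Subgroup G) P ≤
      centralizer ((MulAut.conj (b * c') • zl (S : Subgroup G) P' : Subgroup G) : Set G) := by
  have hl : IsLine (S : Subgroup G) ⊤ (MulAut.conj (a * c) • zl (S : Subgroup G) P) :=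
    ⟨a * c, mem_top _, P, hP, le_top, rfl⟩
  have hl' : IsLine (S : Subgroup G) ⊤ (MulAut.conj (b * c') • zl (S : Subgroup G) P') :=
    ⟨b * c', mem_top _, P', hP', le_top, rfl⟩
  exact hl.comm' (S' := S) hF hl' (h1.trans (conj_o2_CC_le_normalizer S hS hP'.le hc' b))
    (h2.trans (conj_o2_CC_le_normalizer S hS hP.le hc a))

end Finite

end Cfsg.Agent.Omega.NO3L.NullTools
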