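import Cfsg.Agent.Omega.NO3L.Cut

/-!
# NO-3L, case (B): the tools and the trichotomy (B1), (B2), (B3) (#13890, author helper863, referee helper120 #14215)

`¬ CaseA S`; `H, K ∈ HH S`, `U_H = zl S H`, `F_K = FH S K`, `Q = O₂(C)`.

* `zl_le_o2CC`, `zl_le_normalizer`, `zl_mutual` : `U_H ≤ Q`; `U_H`, `U_K` normalise each other;
* `FH_le_normalizer_zl`, `zl_le_normalizer_FH`, `comm_le`, `quad` : `U_H`, `F_K` normalise each other, `F_K` is
  quadratic on `U_H`; `CC_le_normalizer_FH` : `C ≤ N(F_K)`; `FH_comm_WW` : `F_K` centralises all lines on the point `Z`;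
* `co_of_le` : `W_x ≤ Q_y`, `W_y ≤ Q_x` imply `[W_x, W_y] = 1`;
* `CaseB1`, `CaseB2`, `CaseB3`, `trichotomy`; `CaseB2.mutual` : the properties of (B2); `CaseB3.three_le` : `d_H ≥ 3`.
-/

set_option autoImplicit false
set_option linter.unusedSectionVars false

namespace Cfsg.Agent.Omega.NO3L.Tools

open Subgroup Cfsg Cfsg.Agent.ZN Cfsg.Agent.Omega.MinPar Cfsg.Agent.MinSimple.VModule
open Cfsg.Agent.MinSimple.Basic
open Cfsg.Agent.Omega Cfsg.Agent.Omega.NoFF.Basic Cfsg.Agent.Omega.NoFF.Lines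
open Cfsg.Agent.Omega.NoFF.LinesPlug Cfsg.Agent.Omega.NO3L.Cut
open scoped Pointwise

variable {G : Type*} [Group G]

/-- (B1): two `U_H`, `U_K` at the same point do not commute. -/
def CaseB1 (S : Subgroup G) : Prop :=
  ∃ H ∈ HH S, ∃ K ∈ HH S, ¬ zl S H ≤ centralizer (zl S K : Set G)

/-- (B2): all `U_H` at the same point commute, but some `U_H` does not commute with a line `(V_P)^k`, `k ∈ K`, on a
point of `K`. -/
def CaseB2 (S : Subgroup G) : Prop :=
  (∀ H ∈ HH S, ∀ K ∈ HH S, zl S H ≤ centralizer (zl S K : Set G)) ∧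
    ∃ H ∈ HH S, ∃ K ∈ HH S, ∃ P, IsParS S P ∧ ∃ k ∈ K,
      ¬ zl S H ≤ centralizer ((MulAut.conj k • zl S P : Subgroup G) : Set G)

/-- (B3): all `U_H` commute with all `F_K`. -/
def CaseB3 (S : Subgroup G) : Prop :=
  ∀ H ∈ HH S, ∀ K ∈ HH S, zl S H ≤ centralizer (FH S K : Set G)

theorem trichotomy (S : Subgroup G) : CaseB1 S ∨ CaseB2 S ∨ CaseB3 S := by
  by_cases h1 : CaseB1 S
  · exact Or.inl h1
  right
  unfold CaseB1 at h1
  push Not at h1
  by_cases h3 : CaseB3 S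
  · exact Or.inr h3
  left
  refine ⟨h1, ?_⟩
  unfold CaseB3 at h3
  push Not at h3
  obtain ⟨H, hH, K, hK, hne⟩ := h3
  by_contra hcon
  push Not at hcon
  apply hne
  refine comm_symm (FH_le fun x hx => ?_)
  rw [Subgroup.pointwise_smul_subset_iff]
  refine W_le fun P hP c hc => ?_
  rw [← Subgroup.pointwise_smul_subset_iff, conj_conj]
  exact comm_symm (hcon H hH K hK P hP (x * c) (mul_mem hx (hK.2 hc)))

section tools

variable [Finite G] {S : Sylow 2 G} {H K : Subgroup G}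

/-- `U_H ≤ O₂(C)` -/
theorem zl_le_o2 (hG : IsCharacteristicTwoType G) (hH : H ∈ HH (S : Subgroup G)) :
    zl (S : Subgroup G) H ≤ o2 H := by
  have h1 := hH.1.zl_le S hG
  exact h1.trans (zc_le _)

theorem zl_le_o2CC (hG : IsCharacteristicTwoType G) (hH : H ∈ HH (S : Subgroup G)) :
    zl (S : Subgroup G) H ≤ o2 (CC (S : Subgroup G)) := (zl_le_o2 hG hH).trans (o2_le_o2CC hH)

theorem o2CC_le (hK : K ∈ HH (S : Subgroup G)) : o2 (CC (S : Subgroup G)) ≤ K := (o2_le _).trans hK.2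

/-- `U_H` normalises `U_K` -/
theorem zl_le_normalizer (hG : IsCharacteristicTwoType G) (hH : H ∈ HH (S : Subgroup G)) (hK : K ∈ HH (S : Subgroup G)) :
    zl (S : Subgroup G) H ≤ normalizer (zl (S : Subgroup G) K : Set G) :=
  (zl_le_o2CC hG hH).trans ((o2CC_le hK).trans (le_normalizer_zl _ _))

/-- `U_H` normalises `F_K` -/
theorem zl_le_normalizer_FH (hG : IsCharacteristicTwoType G) (hH : H ∈ HH (S : Subgroup G))
    (hK : K ∈ HH (S : Subgroup G)) : zl (S : Subgroup G) H ≤ normalizer (FH (S : Subgroup G) K : Set G) :=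
  (zl_le_o2CC hG hH).trans ((o2CC_le hK).trans (le_normalizer_FH _ _))

omit [Finite G] in
theorem CC_le_normalizer_FH {S : Subgroup G} (hK : K ∈ HH S) : CC S ≤ normalizer (FH S K : Set G) :=
  hK.2.trans (le_normalizer_FH _ _)

theorem FH_le_o2CC (hlow : Low (S : Subgroup G)) (hA : ¬ CaseA (S : Subgroup G)) (hK : K ∈ HH (S : Subgroup G)) :
    FH (S : Subgroup G) K ≤ o2 (CC (S : Subgroup G)) := (FH_le_o2 hlow hA hK).trans (o2_le_o2CC hK)

/-- `F_K` normalises `U_H` -/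
theorem FH_le_normalizer_zl (hlow : Low (S : Subgroup G)) (hA : ¬ CaseA (S : Subgroup G))
    (hH : H ∈ HH (S : Subgroup G)) (hK : K ∈ HH (S : Subgroup G)) :
    FH (S : Subgroup G) K ≤ normalizer (zl (S : Subgroup G) H : Set G) :=
  (FH_le_o2CC hlow hA hK).trans ((o2CC_le hH).trans (le_normalizer_zl _ _))

omit [Finite G] in
/-- Two subgroups which normalise each other: `[A, B] ≤ A ∩ B`. -/
theorem commutator_le_inf {A B : Subgroup G} (h1 : A ≤ normalizer (B : Set G)) (h2 : B ≤ normalizer (A : Set G)) :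
    ⁅A, B⁆ ≤ A ⊓ B := by
  rw [Subgroup.commutator_le]
  intro a ha b hb
  rw [commutatorElement_def]
  refine Subgroup.mem_inf.2 ⟨?_, ?_⟩
  · have h3 := (mem_normalizer_iff.1 (h2 hb) a⁻¹).1 (A.inv_mem ha)
    have h4 := mul_mem ha h3
    simpa only [mul_assoc] using h4
  · exact mul_mem ((mem_normalizer_iff.1 (h1 ha) b).1 hb) (B.inv_mem hb)

theorem comm_le (hG : IsCharacteristicTwoType G) (hlow : Low (S : Subgroup G)) (hA : ¬ CaseA (S : Subgroup G))
    (hH : H ∈ HH (S : Subgroup G)) (hK : K ∈ HH (S : Subgroup G)) :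
    ⁅zl (S : Subgroup G) H, FH (S : Subgroup G) K⁆ ≤ zl (S : Subgroup G) H ⊓ FH (S : Subgroup G) K :=
  commutator_le_inf (zl_le_normalizer_FH hG hH hK) (FH_le_normalizer_zl hlow hA hH hK)

/-- `F_K` is quadratic on `U_H`. -/
theorem quad (hG : IsCharacteristicTwoType G) (hF : ¬ FF (S : Subgroup G)) (hlow : Low (S : Subgroup G))
    (hA : ¬ CaseA (S : Subgroup G)) (hH : H ∈ HH (S : Subgroup G)) (hK : K ∈ HH (S : Subgroup G)) :
    ⁅⁅zl (S : Subgroup G) H, FH (S : Subgroup G) K⁆, FH (S : Subgroup G) K⁆ = ⊥ := by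
  rw [Subgroup.commutator_eq_bot_iff_le_centralizer]
  exact (comm_le hG hlow hA hH hK).trans (inf_le_right.trans (FH_comm hG hF hlow hA hK))

/-- `F_K` centralises all lines on the point `Z`. -/
theorem FH_comm_WW (hG : IsCharacteristicTwoType G) (hF : ¬ FF (S : Subgroup G)) (hlow : Low (S : Subgroup G))
    (hA : ¬ CaseA (S : Subgroup G)) (hK : K ∈ HH (S : Subgroup G)) :
    FH (S : Subgroup G) K ≤ centralizer (WW (S : Subgroup G) : Set G) :=
  comm_symm (WW_le_FH.trans (FH_comm hG hF hlow hA hK))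

/-- `W_x ≤ Q_y`, `W_y ≤ Q_x` imply `[W_x, W_y] = 1`. -/
theorem co_of_le (hG : IsCharacteristicTwoType G) (hF : ¬ FF (S : Subgroup G)) {x y : G}
    (h1 : MulAut.conj x • WW (S : Subgroup G) ≤ MulAut.conj y • o2 (CC (S : Subgroup G)))
    (h2 : MulAut.conj y • WW (S : Subgroup G) ≤ MulAut.conj x • o2 (CC (S : Subgroup G))) :
    Co (S : Subgroup G) x y := by
  have D := sys hG S hF
  have hSP : ∀ P ∈ PStar (S : Subgroup G), (S : Subgroup G) ≤ P := D.SP
  have hQS : o2 (CC (S : Subgroup G)) ≤ (S : Subgroup G) :=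
    o2_le_of_sylow S.isPGroup' (MinSimple.Basic.not_dvd_relIndex S (S_le_CC S))
  unfold Co Com
  refine conj_W_le fun P hP c hc => comm_symm ?_
  refine conj_W_le fun P' hP' d hd => ?_
  have key : ∀ {x y c d : G} {P P' : Subgroup G}, P ∈ PStar (S : Subgroup G) → P' ∈ PStar (S : Subgroup G) →
      c ∈ CC (S : Subgroup G) → d ∈ CC (S : Subgroup G) →
      MulAut.conj x • WW (S : Subgroup G) ≤ MulAut.conj y • o2 (CC (S : Subgroup G)) →
      MulAut.conj (x * c) • V (zc (S : Subgroup G)) P ≤ MulAut.conj (y * d) • P' := by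
    intro x y c d P P' hP hP' hc hd h
    have h3 := (conj_line_le (Z := zc (S : Subgroup G)) hP x hc).trans h
    have h4 : MulAut.conj y • o2 (CC (S : Subgroup G)) = MulAut.conj (y * d) • o2 (CC (S : Subgroup G)) := by
      rw [← conj_conj y d, o2_conj hd]
    rw [h4] at h3
    exact h3.trans (conj_le_iff.2 (hQS.trans (hSP P' hP')))
  exact D.noff' hP' hP (key hP' hP hd hc h2) (key hP hP' hc hd h1)

end tools

/-! ### (B1) -/

section b1

variable [Finite G] {S : Sylow 2 G}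

/-- (B1): `U_H`, `U_K` normalise each other and centralise all lines on the point `Z`. -/
theorem CaseB1.mutual (hG : IsCharacteristicTwoType G) (hA : ¬ CaseA (S : Subgroup G))
    (h : CaseB1 (S : Subgroup G)) : ∃ H ∈ HH (S : Subgroup G), ∃ K ∈ HH (S : Subgroup G),
      ¬ zl (S : Subgroup G) H ≤ centralizer (zl (S : Subgroup G) K : Set G) ∧
      zl (S : Subgroup G) H ≤ normalizer (zl (S : Subgroup G) K : Set G) ∧
      zl (S : Subgroup G) K ≤ normalizer (zl (S : Subgroup G) H : Set G) ∧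
      WW (S : Subgroup G) ≤ centralizer (zl (S : Subgroup G) H : Set G) ∧
      WW (S : Subgroup G) ≤ centralizer (zl (S : Subgroup G) K : Set G) := by
  obtain ⟨H, hH, K, hK, hne⟩ := h
  exact ⟨H, hH, K, hK, hne, zl_le_normalizer hG hH hK, zl_le_normalizer hG hK hH, WW_comm_zl hA hH,
    WW_comm_zl hA hK⟩

end b1

/-! ### (B2) -/

section b2

variable [Finite G] {S : Sylow 2 G} {H K P : Subgroup G} {k : G}

/-- (B2): `U_H ≤ O₂(K)` -/
theorem zl_le_o2_of_comm (hG : IsCharacteristicTwoType G)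
    (hc : ∀ H ∈ HH (S : Subgroup G), ∀ K ∈ HH (S : Subgroup G),
      zl (S : Subgroup G) H ≤ centralizer (zl (S : Subgroup G) K : Set G))
    (hH : H ∈ HH (S : Subgroup G)) (hK : K ∈ HH (S : Subgroup G)) : zl (S : Subgroup G) H ≤ o2 K :=
  le_o2_of_comm hK (zl_le_o2CC hG hH) (hc H hH K hK)

/-- (B2): `U_H ≤ O₂(K) ≤ Q_y` normalises the lines on the points `y` of `K`. -/
theorem zl_le_normalizer_line (hG : IsCharacteristicTwoType G)
    (hc : ∀ H ∈ HH (S : Subgroup G), ∀ K ∈ HH (S : Subgroup G),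
      zl (S : Subgroup G) H ≤ centralizer (zl (S : Subgroup G) K : Set G))
    (hH : H ∈ HH (S : Subgroup G)) (hK : K ∈ HH (S : Subgroup G)) (hP : IsParS (S : Subgroup G) P) (hk : k ∈ K) :
    zl (S : Subgroup G) H ≤ normalizer ((MulAut.conj k • zl (S : Subgroup G) P : Subgroup G) : Set G) := by
  have h1 : zl (S : Subgroup G) H ≤ MulAut.conj k • (S : Subgroup G) := by
    refine (zl_le_o2_of_comm hG hc hH hK).trans ?_
    rw [← o2_conj hk]
    exact conj_le_iff.2 (hK.1.o2_le S)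
  refine h1.trans ?_
  rw [NoFF.Main.normalizer_conj]
  exact conj_le_iff.2 ((IsParS.isLoc hP).le.trans (le_normalizer_zl _ _))

/-- (B2): the line normalises `U_H`. -/
theorem line_le_normalizer_zl (hlow : Low (S : Subgroup G)) (hA : ¬ CaseA (S : Subgroup G))
    (hH : H ∈ HH (S : Subgroup G)) (hK : K ∈ HH (S : Subgroup G)) (hP : IsParS (S : Subgroup G) P) (hk : k ∈ K) :
    MulAut.conj k • zl (S : Subgroup G) P ≤ normalizer (zl (S : Subgroup G) H : Set G) :=
  ((conj_le_iff.2 (zl_le_WW hP)).trans (V_le_FH hk)).trans (FH_le_normalizer_zl hlow hA hH hK)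

omit [Finite G] in
/-- (B2): the point `y` is not a point of `H`. -/
theorem not_mem_of_not_comm {S : Subgroup G} (hA : ¬ CaseA S) (hH : H ∈ HH S) (hP : IsParS S P)
    (hne : ¬ zl S H ≤ centralizer ((MulAut.conj k • zl S P : Subgroup G) : Set G)) : k ∉ H := by
  intro hk
  apply hne
  have h1 : zl S P ≤ centralizer (zl S H : Set G) := by
    by_contra hcon
    exact hA ⟨P, H, hP, hH, hcon⟩
  have h2 := conj_le_centralizer (g := k) h1
  rw [conj_eq_self (le_normalizer_zl S H) hk] at h2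
  exact comm_symm h2

/-- **(B2)**: `U_H` and the line `V_l = (V_P)^k` on the point `y = Z^k` of `K` form a mutual pair, `U_H ≤ O₂(K) ≤ Q_y`,
`V_l ≤ F_K ≤ O₂(K)`, and `y` is not a point of `H`. -/
theorem CaseB2.mutual (hG : IsCharacteristicTwoType G) (hlow : Low (S : Subgroup G))
    (hA : ¬ CaseA (S : Subgroup G)) (h : CaseB2 (S : Subgroup G)) :
    ∃ H ∈ HH (S : Subgroup G), ∃ K ∈ HH (S : Subgroup G), ∃ P, IsParS (S : Subgroup G) P ∧ ∃ k ∈ K, k ∉ H ∧
      ¬ zl (S : Subgroup G) H ≤ centralizer ((MulAut.conj k • zl (S : Subgroup G) P : Subgroup G) : Set G) ∧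
      zl (S : Subgroup G) H ≤ normalizer ((MulAut.conj k • zl (S : Subgroup G) P : Subgroup G) : Set G) ∧
      MulAut.conj k • zl (S : Subgroup G) P ≤ normalizer (zl (S : Subgroup G) H : Set G) ∧
      zl (S : Subgroup G) H ≤ o2 K ∧ MulAut.conj k • zl (S : Subgroup G) P ≤ o2 K ∧
      o2 K ≤ o2 (CC (S : Subgroup G)) ∧ o2 K ≤ MulAut.conj k • o2 (CC (S : Subgroup G)) := by
  obtain ⟨hc, H, hH, K, hK, P, hP, k, hk, hne⟩ := h
  exact ⟨H, hH, K, hK, P, hP, k, hk, not_mem_of_not_comm hA hH hP hne, hne,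
    zl_le_normalizer_line hG hc hH hK hP hk, line_le_normalizer_zl hlow hA hH hK hP hk,
    zl_le_o2_of_comm hG hc hH hK,
    ((conj_le_iff.2 (zl_le_WW hP)).trans (V_le_FH hk)).trans (FH_le_o2 hlow hA hK), o2_le_o2CC hK,
    o2_le_conj_o2CC hK hk⟩

end b2

/-! ### (B3) -/

section b3

variable [Finite G] {S : Sylow 2 G} {H K : Subgroup G}

/-- (B3): `F_K ≤ O₂(H)` for all `H, K`. -/
theorem CaseB3.FH_le (hlow : Low (S : Subgroup G)) (hA : ¬ CaseA (S : Subgroup G)) (h : CaseB3 (S : Subgroup G))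
    (hH : H ∈ HH (S : Subgroup G)) (hK : K ∈ HH (S : Subgroup G)) : FH (S : Subgroup G) K ≤ o2 H :=
  le_o2_of_comm hH (FH_le_o2CC hlow hA hK) (comm_symm (h H hH K hK))

/-- (B3): `[W_x, W_y] = 1` for `x ∈ H`, `y ∈ K`. -/
theorem CaseB3.co (hG : IsCharacteristicTwoType G) (hF : ¬ FF (S : Subgroup G)) (hlow : Low (S : Subgroup G))
    (hA : ¬ CaseA (S : Subgroup G)) (h : CaseB3 (S : Subgroup G)) (hH : H ∈ HH (S : Subgroup G))
    (hK : K ∈ HH (S : Subgroup G)) {x y : G} (hx : x ∈ H) (hy : y ∈ K) : Co (S : Subgroup G) x y :=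
  co_of_le hG hF
    (((V_le_FH hx).trans (h.FH_le hlow hA hK hH)).trans (o2_le_conj_o2CC hK hy))
    (((V_le_FH hy).trans (h.FH_le hlow hA hH hK)).trans (o2_le_conj_o2CC hH hx))

/-- (B3): the critical distance is at least 3. -/
theorem CaseB3.three_le (hG : IsCharacteristicTwoType G) (hS : (S : Subgroup G) ≠ ⊥) (hF : ¬ FF (S : Subgroup G))
    (hlow : Low (S : Subgroup G)) (hA : ¬ CaseA (S : Subgroup G)) (h : CaseB3 (S : Subgroup G)) {m : ℕ} {x y : G}
    (hm : CritH (S : Subgroup G) m x y) : 3 ≤ m := by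
  by_contra hlt
  have h2 : m = 0 ∨ m = 1 ∨ m = 2 := by omega
  have hpath := hm.path
  rcases h2 with rfl | rfl | rfl
  · exact hm.ne (co_of_zero hG hS hF hlow hpath)
  · exact hm.ne (co_of_one hG hF hlow hA hpath)
  · apply hm.ne
    obtain ⟨u, p, c, K, hK, h1, hp, hc, rfl⟩ := Path.of_succ hpath
    obtain ⟨v, q, d, H, hH, h0, hq, hd, rfl⟩ := Path.of_succ h1
    obtain ⟨e, he, rfl⟩ := Path.of_zero h0
    have h3 : (x * e * q * d)⁻¹ * x ∈ H := by
      have e1 : (x * e * q * d)⁻¹ * x = (e * q * d)⁻¹ := by group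
      rw [e1]
      exact inv_mem (mul_mem (mul_mem (hH.2 he) hq) (hH.2 hd))
    have h4 : (x * e * q * d)⁻¹ * (x * e * q * d * p * c) ∈ K := by
      have e1 : (x * e * q * d)⁻¹ * (x * e * q * d * p * c) = p * c := by group
      rw [e1]
      exact mul_mem hp (hK.2 hc)
    have h5 := (com_mul_left (g := x * e * q * d)).2 (h.co hG hF hlow hA hH hK h3 h4)
    rwa [mul_inv_cancel_left, mul_inv_cancel_left] at h5

end b3

end Cfsg.Agent.Omega.NO3L.Tools
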